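import Cfsg.Agent.Lib.QJ.Small
import Cfsg.Prelude.Def_Classical
import Cfsg.Prelude.Def_Spor_Mathieu
import Cfsg.Agent.Lib.QS.NpG
import Cfsg.Agent.Lib.Mathieu.Syl2
import Cfsg.Agent.Lib.Mathieu.Aut2
import Cfsg.Agent.Lib.QE.Thin
import Cfsg.Agent.Lib.G23.Rec
import Cfsg.Agent.Lib.Unitary.Inv3
import Cfsg.Agent.S2060
import Cfsg.Agent.S2062
import Cfsg.Agent.S2601
import Cfsg.Agent.S2603

/-! # QJ (S1817): groups with one class of involutions

Use `mn_one`: a non-abelian Sylow 2-subgroup `U`, one class of involutions, `4 ∤ |Out|`, and `c1`.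
* `L₂(p)`, `p ≥ 7` a Fermat or Mersenne prime: `QE.thin_prime` (`one`, `inn`, `nab`); `8 ∣ |L₂(p)|` and the Sylow subgroup is dihedral.
* `L₃(3)`: an outer automorphism does not fix the class of an element of order 8; `U₃(3)`: `St.inner_of_fix`; `M₁₁`: `Out = 1`;
  `M₂₂`: `Aut = M₂₂ : 2 ≤ M₂₄`, and the centraliser in `M₂₄` of a Sylow 2-subgroup of `M₂₂` lies in `M₂₂`. -/

set_option autoImplicit false
set_option linter.unusedSectionVars false
set_option maxRecDepth 100000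

namespace Cfsg.Lib.QJ

open Subgroup Cfsg.Lib.BG Cfsg.Lib.Comp Cfsg.Lib.QS
open scoped Cfsg.Lib.Transfer commutatorElement MatrixGroups

variable {F : Type} [Field F] [Fintype F] {Y : Type*} [Group Y]

section Gen

variable [Finite Y] {U : Subgroup Y}

/-- a dihedral subgroup of order eight -/
theorem nab_of_d8 (hU : Syl 2 U ⊤) {a c : Y} (ha : a * a = 1) (hc : c * c = 1) (h4 : (a * c) ^ 4 = 1)
    (h2 : a * c ≠ c * a) : ¬ U ≤ 𝐂(U) := fun h => by
  have ai : a⁻¹ = a := inv_eq_of_mul_eq_one_right ha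
  have ci : c⁻¹ = c := inv_eq_of_mul_eq_one_right hc
  have p (x : Y) (k : x ^ 4 = 1) : IsPGroup 2 (zpowers x) := by
    rintro ⟨_, i, rfl⟩
    exact ⟨2, Subtype.ext (by
      change (x ^ i) ^ 4 = 1
      rw [← zpow_natCast, ← zpow_mul, mul_comm, zpow_mul, zpow_natCast, k, one_zpow])⟩
  have n : zpowers a ≤ 𝐍(zpowers (a * c)) := zpowers_le.2 (Transfer.mem_normalizer_of_conj_le (by
    rintro _ ⟨_, ⟨i, rfl⟩, rfl⟩
    refine ⟨-i, ?_⟩
    have : MulAut.conj a (a * c) = (a * c)⁻¹ := by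
      rw [MulAut.conj_apply, mul_inv_rev, ai, ci, ← mul_assoc, ha, one_mul]
    change (a * c) ^ (-i) = MulAut.conj a ((a * c) ^ i)
    rw [map_zpow, this, inv_zpow']))
  have q := IsPGroup.to_sup_of_normal_right' (p a (by rw [show 4 = 2 * 2 from rfl, pow_mul, sq a, ha, one_pow])) (p _ h4) n
  obtain ⟨g, -, hg⟩ := hU.exists_conj_le q le_top
  have m1 : a ∈ zpowers a ⊔ zpowers (a * c) := mem_sup_left (mem_zpowers a)
  have m2 : c ∈ zpowers a ⊔ zpowers (a * c) := (mul_mem_cancel_left m1).1 (mem_sup_right (mem_zpowers _))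
  have := mem_cent.1 (h (hg ⟨c, m2, rfl⟩)) _ (hg ⟨a, m1, rfl⟩)
  exact h2 ((MulAut.conj g).injective (by simpa using this))

/-- an outer automorphism moves the class of a 2-element -/
theorem c1_of_swap (hU : Syl 2 U ⊤) (ho : Nat.card (Out Y) = 2) (τ : MulAut Y) {x : Y} {k : ℕ} (hx : x ^ 2 ^ k = 1)
    (n : ¬ IsConj x (τ x)) (α : MulAut Y) (h : ∀ u ∈ U, α u = u) : α ∈ Inn Y := by
  by_contra hα
  have hτ : τ ∉ Inn Y := fun ⟨g, e⟩ => n (isConj_iff.2 ⟨g, by rw [← e]; rfl⟩)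
  obtain ⟨w, -, hw⟩ := (Nat.card_eq_two_iff' (1 : Out Y)).1 ho
  obtain ⟨g, e⟩ : α⁻¹ * τ ∈ Inn Y := QuotientGroup.eq.1
    ((hw _ (mt (QuotientGroup.eq_one_iff α).1 hα)).trans (hw _ (mt (QuotientGroup.eq_one_iff τ).1 hτ)).symm)
  have p : IsPGroup 2 (zpowers x) := by
    rintro ⟨_, i, rfl⟩
    exact ⟨k, Subtype.ext (by
      change (x ^ i) ^ 2 ^ k = 1
      rw [← zpow_natCast, ← zpow_mul, mul_comm, zpow_mul, zpow_natCast, hx, one_zpow])⟩
  obtain ⟨c, -, hc⟩ := hU.exists_conj_le p le_top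
  have e1 : α (c * x * c⁻¹) = c * x * c⁻¹ := h _ (hc ⟨x, mem_zpowers x, rfl⟩)
  have e2 : τ x = α (g * x * g⁻¹) := by
    have := congrArg (fun β : MulAut Y => α (β x)) e
    simpa using this.symm
  have a1 : IsConj x (α (c * x * c⁻¹)) := e1.symm ▸ isConj_iff.2 ⟨c, rfl⟩
  have a2 : IsConj (c * x * c⁻¹) (g * x * g⁻¹) := (isConj_iff.2 ⟨c, rfl⟩).symm.trans (isConj_iff.2 ⟨g, rfl⟩)
  exact n (e2 ▸ a1.trans (α.toMonoidHom.map_isConj a2))

theorem nab_CG {φ : G23.H →* Y} (h : G23.CG φ) (hU : Syl 2 U ⊤) : ¬ U ≤ 𝐂(U) :=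
  nab_of_d8 hU (a := φ G23.a0) (c := φ G23.c0) (by rw [← map_mul]; exact (congrArg φ (by decide +kernel)).trans φ.map_one)
    (by rw [← map_mul]; exact (congrArg φ (by decide +kernel)).trans φ.map_one)
    (by rw [← map_mul, ← map_pow]; exact (congrArg φ (by decide +kernel)).trans φ.map_one)
    (by rw [← map_mul, ← map_mul]; exact mt h.inj.eq_iff.1 (by decide +kernel))

end Gen

theorem mn_L2p (h : IsTwoPowerNeighbourPrime (Fintype.card F)) (h7 : 7 ≤ Fintype.card F) : MnE PSL(2, F) := by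
  rw [← Nat.card_eq_fintype_card] at h h7
  have k := QE.thin_prime h.1 (by omega)
  obtain ⟨S⟩ : Nonempty (Sylow 2 PSL(2, F)) := inferInstance
  have o : Odd (Nat.card F) := h.1.odd_of_ne_two (by omega)
  have n : ¬ IsMulCommutative (S : Subgroup PSL(2, F)) := fun hS => by
    have c := (JR.psl_syl_four o (JR.ab2_of_sylow S hS) (Syl.of_sylow_top S)).card_four
    have d : 2 ^ 3 ∣ Nat.card PSL(2, F) := by
      have e := PSL2.card_PSL2_mul (K := F)
      rw [show Nat.gcd 2 (Nat.card F - 1) = 2 from Nat.gcd_eq_left (Nat.Odd.sub_odd o odd_one).two_dvd] at e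
      refine Nat.dvd_of_mul_dvd_mul_left two_pos (e ▸ Dvd.dvd.mul_left ?_ _)
      generalize Nat.card F = p at h h7 o
      obtain ⟨r, rfl⟩ := o
      have e1 : (2 * r + 1) ^ 2 - 1 = 4 * (r * (r + 1)) := by rw [Nat.sub_eq_iff_eq_add (Nat.one_le_pow _ _ (by omega))]; ring
      have w : ∀ j m : ℕ, 2 * m = 2 ^ j → 3 ≤ m → 4 ∣ m := fun j m a b => by
        rcases j with _ | _ | _ | j
        · omega
        · omega
        · omega
        · exact ⟨2 ^ j, by rw [pow_add] at a; omega⟩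
      rw [e1]
      refine mul_dvd_mul_left 4 (show 4 ∣ _ from ?_)
      rcases h.2 with ⟨j, -, e⟩ | ⟨j, e⟩
      · exact (w j r (by omega) (by omega)).mul_right _
      · exact (w j (r + 1) (by omega) (by omega)).mul_left _
    obtain ⟨Q, hQ⟩ := Sylow.exists_subgroup_card_pow_prime 2 d
    have := (Syl.of_sylow_top S).card_le (.of_card hQ) le_top
    rw [hQ, c] at this
    omega
  exact (mn_one (Syl.of_sylow_top S) (fun α a b => k.inn α a S b) k.one
    (fun e => n ⟨⟨fun x y => Subtype.ext (mem_cent.1 (e y.2) x x.2)⟩⟩) (k.nab S n)).e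

attribute [local instance] Nat.fact_prime_three in
theorem mn_L33 (h : Fintype.card F = 3) : MnE PSL(3, F) := by
  refine MnE.congr (Mn.e (X := PSL(3, ZMod 3)) ?_)
    (Linear.congrPSL (.refl _) (FiniteField.ringEquivOfCardEq ((ZMod.card 3).trans h.symm)))
  obtain ⟨φ, k⟩ := G23.cg_L33 (ZMod.card 3)
  obtain ⟨U, hU, -⟩ := Syl.exists_ge (p := 2) IsPGroup.of_bot (le_top : ⊥ ≤ (⊤ : Subgroup PSL(3, ZMod 3)))
  have c : Nat.card (Out PSL(3, ZMod 3)) = 2 := by
    obtain ⟨ψ, h1, -, h2⟩ := Cfsg.Agent.S2601.result (F := ZMod 3) (p := 3) (f := 1) (n := 3) le_rfl rfl le_rfl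
    rw [← ψ.ker.card_mul_index, h2, index_ker, MonoidHom.range_eq_top.2 h1, card_top, Nat.card_eq_fintype_card]
    decide
  let A : SL(3, ZMod 3) := ⟨!![0, 1, 0; 1, 1, 0; 0, 0, 2], by decide⟩
  refine mn_one hU (fun α _ => c1_of_swap hU c Linear.graphAut (x := (A : PSL(3, ZMod 3))) (k := 3) ?_ (fun e => ?_) α) k.one
    (nab_CG k hU) (by rw [c]; decide)
  · rw [← QuotientGroup.mk_pow, show A ^ 2 ^ 3 = 1 from Subtype.ext (by decide +kernel), QuotientGroup.mk_one]
  · obtain ⟨g, e⟩ := isConj_iff.1 e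
    obtain ⟨g, rfl⟩ := QuotientGroup.mk_surjective g
    have z : center SL(3, ZMod 3) = ⊥ := card_eq_one.1 (by simpa using Linear.card_center_SL (F := ZMod 3) (ι := Fin 3))
    rw [Linear.graphAut_mk, ← QuotientGroup.mk_inv, ← QuotientGroup.mk_mul, ← QuotientGroup.mk_mul, QuotientGroup.eq, z,
      mem_bot, inv_mul_eq_one] at e
    have t := congrArg (fun s : SL(3, ZMod 3) => s.1.trace) e
    simp only [Matrix.SpecialLinearGroup.coe_mul] at t
    rw [Matrix.trace_mul_cycle, ← Matrix.SpecialLinearGroup.coe_mul, inv_mul_cancel, Matrix.SpecialLinearGroup.coe_one,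
      one_mul, Linear.graphSL_coe, Matrix.trace_transpose,
      show A⁻¹ = A ^ 7 from inv_eq_of_mul_eq_one_right (Subtype.ext (by decide +kernel))] at t
    exact absurd t (by decide +kernel)

open scoped Matrix in
theorem mn_U33 (h : Fintype.card F = 9) : MnE (PSU 3 F 3) := by
  have := Fact.mk Nat.prime_three
  have hc : IsChevSimple 2 (PSU 3 F 3) := .inr (.inl ⟨rfl, .inr (.inl ⟨F, _, _, h, ⟨.refl _⟩⟩)⟩)
  have hF : Fintype.card F = 3 ^ 2 := h
  have := charP_of_card_eq_prime_pow hF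
  obtain ⟨σ, hσ⟩ := Unitary.exists_isBar hF
  have hH := hσ.isHerm (ι := Fin 3)
  have hn : Module.finrank F (Fin 3 → F) = 3 := by simp
  have h3 : (3 : F) = 0 := CharP.cast_eq_zero F 3
  have h2 : (2 : F) ≠ 0 := fun e => one_ne_zero (α := F) (by linear_combination h3 - e)
  let e0 : PSU 3 F 3 ≃* SU 3 F 3 := (QuotientGroup.quotientMulEquivOfEq (card_eq_one.1
    ((Unitary.card_center_SU (q := 3) hF (by norm_num)).trans (by decide)))).trans QuotientGroup.quotientBot
  let e := e0.trans (hσ.suEquiv 3)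
  obtain ⟨S⟩ : Nonempty (Sylow 2 (PSU 3 F 3)) := inferInstance
  have c : Nat.card (Out (PSU 3 F 3)) = 2 := by
    obtain ⟨φ, h1, -, h2⟩ := Cfsg.Agent.S2603.result (K := F) (p := 3) (f := 1) (q := 3) (n := 3) le_rfl rfl h le_rfl (by decide)
    rw [← φ.ker.card_mul_index, h2, index_ker, MonoidHom.range_eq_top.2 h1, card_top, Nat.card_eq_fintype_card]
    decide
  refine (mn_one (Syl.of_sylow_top S) (fun α a b => ?_) (fun a b ha hb => ?_) ?_ (by rw [c]; decide)).e
  · obtain ⟨u, k⟩ | ⟨⟨k⟩⟩ := St.inner_of_fix hc a S b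
    · exact ⟨u, MulEquiv.ext fun x => (k x).symm⟩
    · have h1 := Unitary.card_PSU (q := 3) hF (n := 3) (by omega)
      rw [Nat.card_congr k.toEquiv, nat_card_alternatingGroup, Nat.card_fin] at h1
      exact absurd h1 (by decide)
  · obtain ⟨v, hv⟩ := Unitary.exists_isI_of_inv hH hn h2 e (QE.sq_of_two ha).2 (QE.sq_of_two ha).1
    obtain ⟨w, hw⟩ := Unitary.exists_isI_of_inv hH hn h2 e (QE.sq_of_two hb).2 (QE.sq_of_two hb).1
    obtain ⟨g, hg, k⟩ := hH.exists_SUG_vec hn.ge (u := v) (u' := w) (fun r => by simpa [r] using hv.1)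
      (fun r => by simpa [r] using hw.1) (hv.1.trans hw.1.symm)
    have := hv.conj (e.symm ⟨g, hg⟩)
    rw [e.apply_symm_apply, k] at this
    exact isConj_iff.2 ⟨_, this.unique hw⟩
  · let a : SU 3 F 3 := ⟨⟨!![1, 0, 0; 0, -1, 0; 0, 0, -1], by simp [Matrix.det_fin_three]⟩, fun u v => by
      change hermForm 3 F 3 (!![1, 0, 0; 0, -1, 0; 0, 0, -1] *ᵥ u) (!![1, 0, 0; 0, -1, 0; 0, 0, -1] *ᵥ v) = _
      simp [hermForm, Matrix.mulVec, dotProduct, Fin.sum_univ_three, Odd.neg_pow (by decide : Odd 3)]⟩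
    let b : SU 3 F 3 := ⟨⟨!![0, 1, 0; 1, 0, 0; 0, 0, -1], by simp [Matrix.det_fin_three]⟩, fun u v => by
      change hermForm 3 F 3 (!![0, 1, 0; 1, 0, 0; 0, 0, -1] *ᵥ u) (!![0, 1, 0; 1, 0, 0; 0, 0, -1] *ᵥ v) = _
      simp [hermForm, Matrix.mulVec, dotProduct, Fin.sum_univ_three, Odd.neg_pow (by decide : Odd 3), add_comm]⟩
    refine nab_of_d8 (Syl.of_sylow_top S) (a := e0.symm a) (c := e0.symm b) ?_ ?_ ?_ fun r => ?_
    · rw [← map_mul, e0.symm.map_eq_one_iff]
      exact Subtype.ext (Subtype.ext (show a.1.1 * a.1.1 = 1 by simp [a, Matrix.one_fin_three]))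
    · rw [← map_mul, e0.symm.map_eq_one_iff]
      exact Subtype.ext (Subtype.ext (show b.1.1 * b.1.1 = 1 by simp [b, Matrix.one_fin_three]))
    · rw [← map_mul, ← map_pow, e0.symm.map_eq_one_iff]
      exact Subtype.ext (Subtype.ext (show (a.1.1 * b.1.1) ^ 4 = 1 by simp [a, b, pow_succ, Matrix.one_fin_three]))
    · rw [← map_mul, ← map_mul, e0.symm.apply_eq_iff_eq] at r
      have : (a.1.1 * b.1.1) 0 1 = (b.1.1 * a.1.1) 0 1 := congrArg (fun s : SU 3 F 3 => s.1.1 0 1) r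
      simp [a, b] at this
      exact h2 (by linear_combination this)

theorem mn_M11 (h : Spor.IsoM11 Y) : MnE Y := by
  obtain ⟨e⟩ := h
  obtain ⟨φ, k⟩ := G23.cg_M11
  obtain ⟨U, hU, -⟩ := Syl.exists_ge (p := 2) IsPGroup.of_bot (le_top : ⊥ ≤ (⊤ : Subgroup Spor.M11))
  have c := Cfsg.Agent.S2060.result
  exact (mn_one hU (fun α a _ => c1_of_odd (c ▸ odd_one) α a) k.one (nab_CG k hU) (by rw [c]; decide)).e.congr e.symm

open Cfsg.Lib.Grp Cfsg.Lib.Calc Cfsg.Lib.Mathieu Cfsg.Lib.Golay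

theorem cen_syl22 : centralizer (els M24 24 5 G.pt (flat LS22)) ≤ m22 := by
  have i : Grp.In 24 5 G.pt (⊤ : Subgroup M24) (flat LS22) := .mono (mem22.list (by decide +kernel)) le_top
  have a := card_cenEls inj_pt faithful_M24 (by norm_num) (by norm_num) ch24.chn i
  have b := card_cenEls inj_pt faithful_M24 (by norm_num) (by norm_num) ch22.chn i
  exact fun x hx => ((eq_of_le_of_card_ge (inf_le_inf_right _ le_top)
    (a.trans ((show _ = _ by decide +kernel).trans b.symm)).le).ge ⟨mem_top x, hx⟩).1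

open scoped Pointwise in
theorem c1_M22 (α : MulAut Spor.M22) (k : ∀ x ∈ syl22, α x = x) : α ∈ Inn Spor.M22 := by
  have ne : G.pt 23 ≠ G.pt 0 := by decide
  have l : m22 ≤ MulAction.stabilizer M24 ({G.pt 23, G.pt 0} : Finset GolayPt) := fun x hx => by
    change (x : P24) • ({G.pt 23, G.pt 0} : Finset GolayPt) = _
    rw [Finset.smul_finset_insert, Finset.smul_finset_singleton, show (x : P24) • G.pt 23 = _ from hx.1,
      show (x : P24) • G.pt 0 = _ from hx.2]
  let ι := (inclusion l).comp eM22.symm.toMonoidHom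
  have inj : Function.Injective ι := (inclusion_injective l).comp eM22.symm.injective
  have hi : ι.range.index = 2 := Nat.eq_of_mul_eq_mul_left Nat.card_pos (by
    rw [card_mul_index, card_stabilizer_duad (Finset.card_pair ne), ← Nat.card_congr (ι.ofInjective inj).toEquiv, card_M22])
  have := normal_of_index_eq_two hi
  have i : Grp.In 24 5 G.pt syl22 (flat LS22) := in_closure (same22.list (mem22.list (by decide +kernel)))
  have m (s) (hs : ∀ u ∈ syl22, ι u * s = s * ι u) : s ∈ ι.range :=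
    ⟨eM22 ⟨s, cen_syl22 fun u ⟨c, hc, r⟩ => by
      obtain ⟨g, hg, r'⟩ := i c hc
      rw [Rep.eq_of_faithful faithful_M24 r (show Rep 24 5 G.pt (ι g : M24) c from r')]
      exact congrArg Subtype.val (hs g hg)⟩, rfl⟩
  have := simple_M22
  have z : center Spor.M22 = ⊥ := St.center_eq_bot_of_simple fun hc =>
    let _ : CommGroup Spor.M22 := { (inferInstance : Group Spor.M22) with mul_comm := hc.is_comm.comm }
    absurd (card_M22 ▸ IsSimpleGroup.prime_card) (by norm_num)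
  obtain ⟨s, hs⟩ := ind_of_card ι inj (eq_bot_iff.2 fun x hx => by
    obtain ⟨y, rfl⟩ := m x fun u _ => mem_cent.1 hx _ ⟨u, rfl⟩
    rw [show y = 1 from z.le (mem_center_iff.2 fun g => inj (by simpa only [map_mul] using mem_cent.1 hx _ ⟨g, rfl⟩)), map_one]
    exact one_mem _) (by rw [hi, Cfsg.Agent.S2062.result]) α
  obtain ⟨y, rfl⟩ := m s fun u hu => eq_mul_inv_iff_mul_eq.1 (by rw [← hs, k u hu])
  exact ⟨y, MulEquiv.ext fun x => inj (by rw [hs, MulAut.conj_apply, map_mul, map_mul, map_inv])⟩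

theorem mn_M22 (h : Spor.IsoM22 Y) : MnE Y := by
  obtain ⟨e⟩ := h
  obtain ⟨S, hS, -⟩ := sylow22
  have f := faithful_P24.subgroup Spor.M22
  have one (a : Spor.M22) (ha : orderOf a = 2) := (clsS22.uniq inj_pt f (by norm_num) (B := 30) (t := fun _ => true)
    (p := (978327873653409370553588877167592512, 384)) (by decide +kernel) (mem_top a) ha rfl).1
  refine (mn_one (hS ▸ Syl.of_sylow_top S) (fun α _ => c1_M22 α) (fun a b ha hb => ?_) (fun k => ?_)
    (by rw [Cfsg.Agent.S2062.result]; decide)).e.congr e.symm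
  · obtain ⟨g, -, r⟩ := cl_trans (cl_symm (one a ha)) (one b hb)
    exact isConj_iff.2 ⟨g, r⟩
  · have i : Grp.In 24 5 G.pt syl22 (flat LS22) := in_closure (same22.list (mem22.list (by decide +kernel)))
    obtain ⟨x, hx, r⟩ := i 962371918955368510574636649896478752 (by decide +kernel)
    obtain ⟨y, hy, r'⟩ := i 961438956620049001677386430328277024 (by decide +kernel)
    exact (r.mul r').ne_of_ne inj_pt (r'.mul r) (by decide +kernel) (mem_cent.1 (k hy) x hx)

end Cfsg.Lib.QJ
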