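import Cfsg.Agent.Lib.QJ.Core

/-! # QJ: inner and outer involutions; `Mn Y` and `Mf Y` are impossible

Notation: `L = ψ.range`, `K = C(L)`; `r ∈ C(M)`, `M = g ⋆ L ≠ L`, `χ` a frame for `M` (`Sg.frame`), `C(r) ≤ N(M)`. -/

set_option autoImplicit false
set_option linter.unusedSectionVars false

namespace Cfsg.Lib.QJ

open Subgroup Cfsg.Lib.BG Cfsg.Lib.Comp Cfsg.Lib.QS
open scoped Cfsg.Lib.Transfer commutatorElement

variable {G Y : Type*} [Group G] [Finite G] [IsSimpleGroup G] [Group Y] {L T : Subgroup G} {k r : G}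
  {ψ : Y →* G} {U : Subgroup Y} {t : Y} {p : ℕ}

section Aux

variable {X : Type*} [Group X] {H K : Subgroup X} {x y : X}

theorem ix_mul (d : H.relIndex K ∣ 2) (hx : x ∈ K) (hy : y ∈ K) (x' : x ∉ H) (y' : y ∉ H) : x * y ∈ H := by
  rcases (Nat.dvd_prime Nat.prime_two).1 d with e | e
  · exact absurd (relIndex_eq_one.1 e hx) x'
  · exact (mul_mem_iff_of_index_two (H := H.subgroupOf K) e (a := ⟨x, hx⟩) (b := ⟨y, hy⟩)).2 (iff_of_false x' y')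

theorem fpf_onto [Finite X] (hn : x ∈ 𝐍(H)) (hf : ∀ v ∈ H, v ∈ 𝐂[x] → v = 1) (hy : y ∈ H) :
    ∃ v ∈ H, v⁻¹ * (x * v * x⁻¹) = y := by
  obtain ⟨v, e⟩ := Finite.surjective_of_injective (f := fun v : H =>
    (⟨v.1⁻¹ * (x * v * x⁻¹), mul_mem (inv_mem v.2) (conj_mem_of_norm hn v.2)⟩ : H)) (fun v w e => by
      have e1 : v.1⁻¹ * (x * v * x⁻¹) = w.1⁻¹ * (x * w * x⁻¹) := congrArg Subtype.val e
      have := hf (w * v.1⁻¹) (mul_mem w.2 (inv_mem v.2)) (mem_cent1.2 (by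
        calc w.1 * v.1⁻¹ * x = w * (v.1⁻¹ * (x * v * x⁻¹)) * x * v.1⁻¹ * x⁻¹ * x := by group
          _ = _ := by rw [e1]; group))
      exact Subtype.ext (mul_inv_eq_one.1 this).symm) ⟨y, hy⟩
  exact ⟨v, v.2, congrArg Subtype.val e⟩

theorem cy_three [Finite X] (c : QT.Cy 2 X) (h1 : x * x = 1) (h2 : y * y = 1) (h3 : x * y = y * x) :
    x = 1 ∨ y = 1 ∨ x * y = 1 := by
  by_contra! k
  have f : Small.FourGen x y := ⟨k.1, k.2.1, fun r => k.2.2 (r ▸ h1), h1, h2, h3⟩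
  exact f.isKleinFour.not_isCyclic (c f.four (IsPGroup.of_card (n := 2) f.card_four))

theorem der_sup_le (n : K ≤ 𝐍(H)) (a : K ≤ 𝐂(K)) : ⁅H ⊔ K, H ⊔ K⁆ ≤ H := comm_le_iff.2 fun x hx y hy => by
  obtain ⟨l, hl, a, ha, rfl⟩ := (mem_sup_left_norm n).1 hx
  obtain ⟨m, hm, b, hb, rfl⟩ := (mem_sup_left_norm n).1 hy
  have c := mem_cent.1 (‹K ≤ 𝐂(K)› hb) a ha
  rw [show l * a * (m * b) * (l * a)⁻¹ * (m * b)⁻¹ = l * (a * m * a⁻¹) * (a * b * a⁻¹ * l⁻¹ * b⁻¹) * m⁻¹ by group, c,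
    mul_inv_cancel_right]
  exact mul_mem (mul_mem (mul_mem hl (conj_mem_of_norm (n ha) hm)) (conj_mem_of_norm (n hb) (inv_mem hl))) (inv_mem hm)

theorem pg_two (h1 : x * x = 1) (h2 : y * y = 1) (c : x * y = y * x) : IsPGroup 2 ↥(zpowers x ⊔ zpowers y) :=
  pgroup_sup (pg_zp (sq_pow h1)) (pg_zp (sq_pow h2)) (zpowers_le.2 (cent_le_norm _ (cent_zpowers x ▸ mem_cent1.2 c.symm)))

theorem four_dvd [Finite X] (p : IsPGroup 2 H) (ne : H ≠ ⊥) (n2 : Nat.card H ≠ 2) : 4 ∣ Nat.card H := by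
  obtain ⟨n, e⟩ := IsPGroup.iff_card.1 p
  rcases n with _ | _ | n
  · exact absurd e (card_ne_one ne)
  · exact absurd e n2
  · exact ⟨2 ^ n, by rw [e]; ring⟩

end Aux

namespace Sf

variable (h : Sf ψ T) {P M S V : Subgroup G} {x y : G}
include h

theorem ix2 (o4 : ¬ 4 ∣ Nat.card (Out Y)) (p : IsPGroup 2 P) (n : P ≤ 𝐍(ψ.range)) :
    (ψ.range ⊔ 𝐂(ψ.range)).relIndex P ∣ 2 := by
  have := h.fin
  let f := (QJ.ou ψ h.inj).comp (inclusion n)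
  have e : (ψ.range ⊔ 𝐂(ψ.range)).subgroupOf P = f.ker := Subgroup.ext fun x => (QJ.ou_one (n x.2)).symm
  rw [relIndex, e, index_ker]
  obtain ⟨m, e⟩ := IsPGroup.iff_card.1 (p.of_surjective f.rangeRestrict f.rangeRestrict_surjective)
  rcases m with _ | _ | m
  · rw [e]; decide
  · rw [e]; decide
  · exact absurd ((Dvd.intro_left (2 ^ m) (by rw [e]; ring)).trans (card_subgroup_dvd_card f.range)) o4

theorem cy3 (c : QT.Cy 2 (Out Y)) (hx : x ∈ 𝐍(ψ.range)) (hy : y ∈ 𝐍(ψ.range)) (h1 : x * x = 1) (h2 : y * y = 1)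
    (h3 : x * y = y * x) : x ∈ ψ.range ⊔ 𝐂(ψ.range) ∨ y ∈ ψ.range ⊔ 𝐂(ψ.range) ∨ x * y ∈ ψ.range ⊔ 𝐂(ψ.range) := by
  have := h.fin
  have e := cy_three c (x := QJ.ou ψ h.inj ⟨x, hx⟩) (y := QJ.ou ψ h.inj ⟨y, hy⟩)
    (by rw [← map_mul, ← map_one (QJ.ou ψ h.inj)]; exact congrArg _ (Subtype.ext h1))
    (by rw [← map_mul, ← map_one (QJ.ou ψ h.inj)]; exact congrArg _ (Subtype.ext h2))
    (by rw [← map_mul, ← map_mul]; exact congrArg _ (Subtype.ext h3))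
  rw [← map_mul] at e
  exact e.imp (QJ.ou_one hx).1 (Or.imp (QJ.ou_one hy).1 (QJ.ou_one (mul_mem hx hy)).1)

theorem sq2 (hk : k ∈ 𝐂(ψ.range)) (o : orderOf (ψ t * k) = 2) : t * t = 1 ∧ k * k = 1 := by
  simpa only [sq] using h.pow hk (n := 2) ((sq _).trans (o2_sq o))

/-- the frame of `pv` and `ni'` -/
theorem pd_of {g : G} (hk : k ∈ 𝐂(ψ.range)) (t1 : t ≠ 1) (o : orderOf (ψ t * k) = 2) (e : ψ t * k ∈ 𝐂(g ⋆ ψ.range)) :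
    ∃ S T' V, Pd ψ.range (g ⋆ ψ.range) S T' V ∧ ψ t * k ∈ S ∧ T' ⊓ 𝐂(ψ.range) ≤ S := by
  have k2 := (h.sq2 hk o).2
  have c : ψ t * k * k = k * (ψ t * k) := by rw [← mul_assoc, ← cm_K hk]
  obtain ⟨S, T', V, d, l⟩ := h.toFm.exists_pd (h.ne_of t1 hk e) (pg_two (o2_sq o) k2 c)
    (le_inf (sup_le (zpowers_le.2 (mul_mem (le_norm _ ⟨t, rfl⟩) (cent_le_norm _ hk))) (zpowers_le.2 (cent_le_norm _ hk)))
      ((sup_le (zpowers_le.2 (self_mem_cent1 _)) (zpowers_le.2 (mem_cent1.2 c.symm))).trans (std_cn2 (std_conj h.std g) e o)))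
  have hr := l (mem_sup_left (mem_zpowers _))
  exact ⟨S, T', V, d, hr, d.pl ⟨hr, e⟩ (o2_ne o) ⟨l (mem_sup_right (mem_zpowers k)), hk⟩ k2 ⟨t, by rw [mul_assoc, k2, mul_one]⟩⟩

/-- transfer of `p`-elements from `L` to `M` -/
theorem trp {χ : Y →* G} (f : Sf χ V) (pp : p.Prime) (p2 : p ≠ 2) (po : ¬ p ∣ Nat.card (Out Y)) (nc : ¬ QT.Cy p Y)
    (hk : k ∈ 𝐂(ψ.range)) (o : orderOf (ψ t * k) = 2) (e : ψ t * k ∈ 𝐂(χ.range)) {t₀ : Y} {k' : G} (hk' : k' ∈ 𝐂(χ.range))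
    (e' : χ t₀ * k' ∈ 𝐂(ψ.range)) {y : Y} (hy : y ∈ Pg p 𝐂[t]) : ∃ y₀ ∈ 𝐂[t₀], χ y₀ = ψ y := by
  refine (closure_le ((𝐂[t₀].map χ).comap ψ)).2 (fun y hy => ?_) hy
  have c := Sg.cr hk hy.1
  have n := std_cn2 f.std e o c
  have yp : ψ y ^ p = 1 := by rw [← map_pow, hy.2, map_one]
  obtain ⟨y₀, e₀⟩ := qt_mem h.hy o (le_cent1_iff.2 e) f.pZ pp p2 (Sg.ncy f.inj nc) c yp (f.cop n yp pp po)
  refine ⟨y₀, mem_cent1.2 (f.inj ?_), e₀⟩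
  rw [map_mul, map_mul, e₀]
  exact mem_cent1.1 (f.cent hk' n (mem_cent1.2 (cm_K e' y))).1

end Sf

namespace Sg

variable (h : Sg ψ T U)
include h

theorem uq' {V : Subgroup G} (k : Fm ψ.range V) : Uq ψ.range V :=
  let ⟨_, e, f⟩ := h.frame1 k
  e ▸ f.uq

/-- `F = au χ ∘ ψ` on `C(t)`; `ψ x = χ c * k'`, `k' ∈ C(M)` commutes with `r`; `r * ψ x = ψ (t * x) * k ∈ 𝓘` equals `χ c * (k' * r)`, so `c = 1`
by `noa` for `χ`; then `ψ x = ψ x * 1 ∈ 𝓘` contradicts `noa` for `ψ` -/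
theorem p2 (hk : k ∈ 𝐂(ψ.range)) (i : Iv ψ.range (ψ t * k)) (t1 : t ≠ 1) (e : P2 t) : False := by
  obtain ⟨o, g, m⟩ := id i
  obtain ⟨x, hx, x2, x1, tx, c, e⟩ := e
  obtain ⟨χ, e1, f⟩ := h.frame (h.toFm.conj g)
  have iv : ∀ x, Iv χ.range x ↔ Iv ψ.range x := fun x => by rw [e1, iv_iff]
  rw [← e1] at m
  have n := std_cn2 f.std m o
  obtain ⟨c', c2, tc, e⟩ := e ((au χ f.inj).comp (MonoidHom.codRestrict (ψ.comp 𝐂[t].subtype) _ fun y => n (cr hk y.2)))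
  have hk' := (au_conj (n (cr hk hx))).1 e
  have e2 : ψ x = χ c' * ((χ c')⁻¹ * ψ x) := (mul_inv_cancel_left _ _).symm
  generalize (χ c')⁻¹ * ψ x = k' at hk' e2
  have k2 : k' * k' = 1 := by
    simpa only [sq] using (f.pow hk' (n := 2) (by rw [← e2, sq, ← map_mul, x2, map_one])).2
  have rk := mem_cent1.1 (f.cent hk' (cent_le_norm _ m) (e2 ▸ mem_cent1_symm (cr hk hx))).2
  obtain ⟨y, ey⟩ := isConj_iff.1 c
  have j := iv_conj hk i y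
  by_cases c1 : c' = 1
  · rw [c1, map_one, one_mul] at e2
    refine h.noa tx x2 x1 (one_mem _) (one_mul 1) ((iv _).1 (iv_of ?_ ?_)) <;> rw [mul_one]
    exacts [o2 (fun e => x1 (h.inj (e.trans (map_one ψ).symm))) (by rw [← map_mul, x2, map_one]), e2 ▸ hk']
  · refine f.noa tc c2 c1 (mul_mem m hk') (mul_sq rk (o2_sq o) k2) ((iv _).2 ?_)
    rwa [← mul_assoc, cm_K m, mul_assoc, ← e2, mul_assoc, ← cm_K hk, ← mul_assoc, ← map_mul, ← ey]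

/-- `W = ⟨r, k⟩`, `Pd.pl`: `Q = T' ⊓ K ≤ S` centralises `r`; `|Q| ≥ 4` (`Sf.small`), so the kernel of `Q → Out(M)` contains an involution
`k₀ = χ t₀ * k'`, `t₀ ≠ 1` not 2-central (`noa` for `χ`); take `PV p t V h S` and `PV p t₀ V₀ h₀ S₀`.  For `y ∈ C(t)` with `y ^ p = 1`:
`ψ y ∈ M` (`Sf.cop`, `qt_mem` in `C(r)`) centralises `k₀` and `k'`, so `ψ y ∈ χ C(t₀)`; symmetrically `χ y₀ ∈ ψ C(t)` (`qt_mem` in `C(k₀)`).
`V ≤ Pg p C(t)` (`v ↦ v⁻¹ * (h * v * h⁻¹)` is a bijection of `V`).  `χ S₀ ≤ ψ C(t)` normalises `ψ V`, so it centralises `ψ x = χ x₀`,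
`1 ≠ x ∈ V`; `cS` gives `v₀ ∈ V₀` with `v₀ * x₀ ∈ Z(C(t₀))`.  If `v₀ = 1` then `x` commutes with `h`.  Otherwise `x₁ = [x₀, h₀] = [v₀, h₀] ∈ V₀^#`
has `χ x₁ = ψ x'` with `x' ∈ V`, and `ψ (t * x') * k = χ x₁ * r ∈ 𝓘` contradicts `noa` for `χ`. -/
theorem pv (pp : p.Prime) (p2 : p ≠ 2) (po : ¬ p ∣ Nat.card (Out Y)) (nc : ¬ QT.Cy p Y) (o4 : ¬ 4 ∣ Nat.card (Out Y))
    (e : ∀ t : Y, orderOf t = 2 → Tc t ∨ ∃ V h S, PV p t V h S) (hk : k ∈ 𝐂(ψ.range)) (i : Iv ψ.range (ψ t * k)) : t = 1 := by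
  have := h.fin
  by_contra t1
  obtain ⟨o, g, m⟩ := id i
  obtain ⟨t2, k2⟩ := h.sq2 hk o
  obtain ⟨V, x, S, a⟩ := (e t (o2 t1 t2)).resolve_left fun c => h.noa c t2 t1 hk k2 i
  obtain ⟨S', T', V', d, hr, q⟩ := h.pd_of hk t1 o m
  obtain ⟨χ, e1, f⟩ := h.frame d.m
  have iv : ∀ x, Iv χ.range x ↔ Iv ψ.range x := fun x => by rw [e1, iv_iff]
  rw [← e1] at m d
  have pQ := d.l.syl.pgroup.to_le (inf_le_left : T' ⊓ 𝐂(ψ.range) ≤ T')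
  have c4 := four_dvd pQ d.l.Q_ne ((h.of_fm d.l).small (h.uq' d.l) (cy_of_card o4))
  have i2 := f.ix2 o4 pQ ((q.trans d.syl.le).trans inf_le_right)
  obtain ⟨k₀, m₀, k1, k2₀⟩ := exists_inv2 (pQ.to_le (inf_le_right : (χ.range ⊔ 𝐂(χ.range)) ⊓ (T' ⊓ 𝐂(ψ.range)) ≤ _)) fun e => by
    have := BG.card_mul_relIndex (inf_le_right : (χ.range ⊔ 𝐂(χ.range)) ⊓ (T' ⊓ 𝐂(ψ.range)) ≤ _)
    rw [inf_relIndex_right, e, card_bot, one_mul] at this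
    exact absurd (c4.trans (this ▸ i2)) (by decide)
  obtain ⟨t₀, k', hk', rfl⟩ := Sf.dec m₀.1
  have o₀ := o2 k1 k2₀
  obtain ⟨t2₀, k2'⟩ := f.sq2 hk' o₀
  have t1₀ : t₀ ≠ 1 := by
    rintro rfl
    rw [map_one, one_mul] at m₀ k1
    exact k1 (d.one m₀.2.2 hk' (sq_pow k2'))
  obtain ⟨V₀, x₀, S₀, a₀⟩ := (e t₀ (o2 t1₀ t2₀)).resolve_left fun c =>
    f.noa c t2₀ t1₀ hk' k2' ((iv _).2 (iv_of o₀ m₀.2.2))
  have A : ∀ y ∈ Pg p 𝐂[t], ∃ y₀ ∈ 𝐂[t₀], χ y₀ = ψ y := fun y hy => h.trp f.toSf pp p2 po nc hk o m hk' m₀.2.2 hy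
  have B : ∀ y ∈ Pg p 𝐂[t₀], ∃ y₀ ∈ 𝐂[t], ψ y₀ = χ y := fun y hy => f.trp h.toSf pp p2 po nc hk' o₀ m₀.2.2 hk m hy
  have pV : IsPGroup 2 V := fun v => ⟨1, Subtype.ext (sq_pow (a.el v v.2))⟩
  obtain ⟨_, ⟨v, hv, rfl⟩, c, v1, -⟩ := exists_fix (pV.map ψ) (a₀.pS.map χ) (by
      rintro _ ⟨s, hs, rfl⟩
      obtain ⟨y, hy, e⟩ := B s (a₀.gS hs)
      exact e ▸ map_norm ψ a.nV (mem_map_of_mem ψ hy))
    fun e => a.ne ((map_eq_bot_iff_of_injective V h.inj).1 e)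
  obtain ⟨w, hw, ew⟩ := fpf_onto (a.nV a.hc) a.fpf hv
  obtain ⟨v₀, hv₀, ev⟩ := A v (ew ▸ cm_mem_Pg (a.le hw) a.hc a.hp)
  obtain ⟨u, hu, cu⟩ := a₀.cS v₀ hv₀ (mem_cent.2 fun s hs => f.inj (by
      rw [map_mul, map_mul, ev]; exact mem_cent.1 c _ (mem_map_of_mem χ hs)))
    (f.inj (by rw [map_mul, ev, ← map_mul, a.el v hv, map_one, map_one]))
  by_cases u1 : u = 1
  · obtain ⟨x', hx', ex⟩ := A x (subset_closure ⟨a.hc, a.hp⟩)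
    rw [u1, one_mul] at cu
    have e3 : ψ (v * x) = ψ (x * v) := by rw [map_mul, map_mul, ← ex, ← ev, ← map_mul, ← map_mul, mem_cent.1 cu x' hx']
    exact v1 (by rw [a.fpf v hv (mem_cent1.2 (h.inj e3)), map_one])
  obtain ⟨x', hx', ex⟩ := B x₀ (subset_closure ⟨a₀.hc, a₀.hp⟩)
  have e2 : u⁻¹ * (x₀ * u * x₀⁻¹) = v₀ * (x₀ * v₀ * x₀⁻¹)⁻¹ := by
    calc _ = u⁻¹ * (x₀ * (u * v₀)) * v₀⁻¹ * x₀⁻¹ := by group
      _ = _ := by rw [mem_cent.1 cu x₀ a₀.hc]; group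
  have m1 : u⁻¹ * (x₀ * u * x₀⁻¹) ∈ V₀ := mul_mem (inv_mem hu) (conj_mem_of_norm (a₀.nV a₀.hc) hu)
  have m2 : v * (x' * v * x'⁻¹)⁻¹ ∈ V := mul_mem hv (inv_mem (conj_mem_of_norm (a.nV hx') hv))
  refine f.noa (a₀.tc _ m1).1 (a₀.el _ m1) (fun e => u1 (a₀.fpf u hu (mem_cent1.2 ?_))) m (o2_sq o) ((iv _).2 ?_)
  · rw [inv_mul_eq_one, eq_mul_inv_iff_mul_eq] at e
    exact e
  obtain ⟨y, ey⟩ := isConj_iff.1 (a.tc _ m2).2
  have j := iv_conj hk i y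
  have e3 : χ (u⁻¹ * (x₀ * u * x₀⁻¹)) = ψ (v * (x' * v * x'⁻¹)⁻¹) := by
    rw [e2]; simp only [map_mul, map_inv, ev, ex]
  rwa [cm_K m, e3, mul_assoc, ← cm_K hk, ← mul_assoc, ← map_mul, ← ey]

theorem ni (e : In Y) : NI ψ.range := fun r i m => by
  obtain ⟨t, k, hk, rfl⟩ := Sf.dec m
  have t1 : t = 1 := by
    rcases e with e | ⟨p, pp, p2, po, nc, o4, e⟩
    · by_contra t1
      obtain ⟨t2, k2⟩ := h.sq2 hk i.1
      exact (e t (o2 t1 t2)).elim (fun c => h.noa c t2 t1 hk k2 i) (h.p2 hk i t1)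
    · exact h.pv pp p2 po nc o4 e hk i
  rwa [t1, map_one, one_mul]

/-- `Pd.pl`, `Pd.full`: `R = V ⊓ C(M) ≤ S` is Sylow in `C(M)`, centralises `Q = T' ⊓ K`, `r` is its only involution.  `R₀ = R ⊓ (L ⊔ K)` has
index at most two.  If `R₀ ≠ ⟨r⟩` there is `ρ = ψ a * κ ∈ R₀` with `ρ² = r`, `a² = t`, and `ρ⁻¹ * (ψ g * ρ * ψ g⁻¹) = ψ e` is an involution
of `C(M)` that commutes with `r`, so `ψ e = r`, `e = t`.  Otherwise `|Q| = |R| ≤ 4`; `|Q| = 2`: `Sf.small`; `|R| = 4`: `R` is cyclic, not inner,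
`T' = (T' ⊓ L) Q R` and `T' / (T' ⊓ L)` is abelian: `Sf.abel`. -/
theorem ni' (e : Mf Y) (n : Nf 𝐂(ψ.range)) : NI ψ.range := fun r i m => by
  have := h.fin
  obtain ⟨t, k, hk, rfl⟩ := Sf.dec m
  suffices t1 : t = 1 by rwa [t1, map_one, one_mul]
  by_contra t1
  obtain ⟨o, g, m⟩ := i
  obtain ⟨t2, k2⟩ := h.sq2 hk o
  have a := (e.2.2 t (o2 t1 t2)).resolve_left fun c => h.noa c t2 t1 hk k2 ⟨o, g, m⟩
  obtain ⟨S, T', V, d, hr, q⟩ := h.pd_of hk t1 o m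
  have f := d.full (ne_bot_of_mem ⟨hr, m⟩ (o2_ne o)) q
  have nf : Nf 𝐂(g ⋆ ψ.range) := Transfer.conj_centralizer g _ ▸ n.conj g
  have nM := std_cn2 d.m.std m o
  have pR := d.m.syl.pgroup.to_le (inf_le_left : V ⊓ 𝐂(g ⋆ ψ.range) ≤ V)
  have rR : zpowers (ψ t * k) ≤ (ψ.range ⊔ 𝐂(ψ.range)) ⊓ (V ⊓ 𝐂(g ⋆ ψ.range)) :=
    zpowers_le.2 ⟨mul_mem_sup ⟨t, rfl⟩ hk, d.sV hr, m⟩
  have e0 : zpowers (ψ t * k) = (ψ.range ⊔ 𝐂(ψ.range)) ⊓ (V ⊓ 𝐂(g ⋆ ψ.range)) := by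
    by_contra ne
    obtain ⟨y, hy, y'⟩ := SetLike.exists_of_lt (nil_norm_grow (pgroup_nil (pR.to_le inf_le_right)) (lt_of_le_of_ne rR ne))
    obtain ⟨j, ρ', ρ2⟩ := PGroup.exists_pow_not_mem_pow_mem (Core.isPGroup_subgroup_iff.1 pR y hy.1.2) y'
    have hρ := pow_mem hy (2 ^ j)
    generalize y ^ 2 ^ j = ρ at ρ' ρ2 hρ
    have zp : ∀ x ∈ zpowers (ψ t * k), x = 1 ∨ x = ψ t * k := fun x hx => (eq_or_ne x 1).imp_right fun x1 =>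
      eq_of_mem_zp o hx x1 (by
        obtain ⟨j, rfl⟩ := hx
        exact ((Commute.refl _).mul_zpow j).symm.trans (by rw [o2_sq o, one_zpow]))
    have cρ : ρ * (ψ t * k) = ψ t * k * ρ := mul_inv_eq_iff_eq_mul.1
      ((zp _ (conj_mem_of_norm hρ.2 (mem_zpowers _))).resolve_left (mt conj_eq_one_iff.1 (o2_ne o)))
    rw [sq] at ρ2
    rcases zp _ ρ2 with e2 | e2
    · rcases nf ρ hρ.1.2.2 _ m e2 (o2_sq o) cρ with e3 | e3 | e3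
      exacts [ρ' (e3 ▸ one_mem _), o2_ne o e3, ρ' (e3 ▸ mem_zpowers _)]
    obtain ⟨b, κ, hκ, rfl⟩ := Sf.dec hρ.1.1
    have b2 : b * b = t := (h.uniq (mul_mem hκ hκ) hk (by
      rw [← e2, map_mul, mul_assoc, mul_assoc, ← mul_assoc κ, ← cm_K hκ, mul_assoc])).1
    obtain ⟨y, hy, s2, s1, st⟩ := a b b2
    have m1 : ψ (b⁻¹ * (y * b * y⁻¹)) ∈ 𝐂(g ⋆ ψ.range) := by
      have m0 : ψ b * κ ∈ 𝐂(g ⋆ ψ.range) := hρ.1.2.2
      have := mul_mem (inv_mem m0) (conj_mem_of_norm (norm_cent le_rfl (nM (cr hk hy))) m0)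
      have e4 : (ψ b * κ)⁻¹ * (ψ y * (ψ b * κ) * (ψ y)⁻¹) = κ⁻¹ * (ψ (b⁻¹ * (y * b)) * κ) * (ψ y)⁻¹ := by
        simp only [map_mul, map_inv]; group
      rwa [e4, cm_K hκ, inv_mul_cancel_left, ← map_inv, ← map_mul, mul_assoc b⁻¹] at this
    have bt : b ∈ 𝐂[t] := mem_cent1.2 (by rw [← b2, mul_assoc])
    rcases nf _ m1 _ m (by rw [← map_mul, s2, map_one]) (o2_sq o)
      (mem_cent1.1 (cr hk (mul_mem (inv_mem bt) (mul_mem (mul_mem hy bt) (inv_mem hy))))) with e3 | e3 | e3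
    exacts [s1 (h.inj (e3.trans (map_one ψ).symm)), o2_ne o e3, st (h.uniq (one_mem _) hk ((mul_one _).trans e3)).1]
  have i2 := h.ix2 e.2.1 pR ((f.trans d.syl.le).trans inf_le_left)
  have c1 := BG.card_mul_relIndex (inf_le_right : (ψ.range ⊔ 𝐂(ψ.range)) ⊓ (V ⊓ 𝐂(g ⋆ ψ.range)) ≤ _)
  rw [inf_relIndex_right, ← e0, Nat.card_zpowers, o, d.l.card_Q d.m] at c1
  have h' := h.of_fm d.l
  rcases (Nat.dvd_prime Nat.prime_two).1 i2 with e2 | e2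
  · exact h'.small (h.uq' d.l) (cy_of_card e.2.1) (by rw [← c1, e2])
  obtain ⟨ρ, hρ, ρ'⟩ := SetLike.not_le_iff_exists.1 fun l => absurd ((relIndex_eq_one.2 l).symm.trans e2) (by decide)
  have ρT := d.sT (f hρ)
  have ab : IsMulCommutative ↥(T' ⊓ 𝐂(ψ.range)) :=
    IsPGroup.isMulCommutative_of_card_eq_prime_sq (p := 2) (by rw [← c1, e2]; rfl)
  have cA : T' ⊓ 𝐂(ψ.range) ⊔ zpowers ρ ≤ 𝐂(T' ⊓ 𝐂(ψ.range) ⊔ zpowers ρ) :=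
    abelian_cent (abelian_sup ab (abelian_of_cyclic inferInstance)
      (cent_symm (zpowers_le.2 (cent_anti (le_inf q inf_le_right) (d.comm ⟨f hρ, hρ.2⟩)))))
  have AT : T' ⊓ 𝐂(ψ.range) ⊔ zpowers ρ ≤ T' := sup_le inf_le_left (zpowers_le.2 ρT)
  have key : ∀ x ∈ T', x ∈ ψ.range ⊔ 𝐂(ψ.range) → x ∈ ψ.range ⊔ (T' ⊓ 𝐂(ψ.range) ⊔ zpowers ρ) := fun x hx m => by
    obtain ⟨c, κ, hκ, rfl⟩ := Sf.dec m
    exact mul_mem_sup ⟨c, rfl⟩ (mem_sup_left ⟨h'.decT hκ hx, hκ⟩)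
  have l : T' ≤ ψ.range ⊔ (T' ⊓ 𝐂(ψ.range) ⊔ zpowers ρ) := fun x hx => by
    by_cases e3 : x ∈ ψ.range ⊔ 𝐂(ψ.range)
    · exact key x hx e3
    · exact (mul_mem_cancel_right (mem_sup_right (mem_sup_right (mem_zpowers ρ)))).1
        (key _ (mul_mem hx ρT) (ix_mul (h.ix2 e.2.1 d.l.syl.pgroup d.l.nT) hx ρT e3 ρ'))
  exact h'.abel (h.uq' d.l) n ((commutator_mono l l).trans (der_sup_le (AT.trans d.l.nT) cA))

theorem o1' (n : NI ψ.range) (e : O1 U) {g : G} {S V : Subgroup G} (d : Pd ψ.range (g ⋆ ψ.range) S T V)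
    (hr : r ∈ S ⊓ 𝐂(g ⋆ ψ.range)) (o : orderOf r = 2) : False := by
  have := h.fin
  have iv : ∀ x ∈ 𝐂(g ⋆ ψ.range), x ≠ 1 → x * x = 1 → Iv ψ.range x := fun x hx x1 x2 => ⟨o2 x1 x2, g, hx⟩
  have out : ∀ x ∈ 𝐂(g ⋆ ψ.range), x * x = 1 → x ∈ ψ.range ⊔ 𝐂(ψ.range) → x = 1 := fun x hx x2 m => by
    by_contra x1
    exact x1 (d.one (n x (iv x hx x1 x2) m) hx (sq_pow x2))
  have SN : S ≤ 𝐍(ψ.range) := d.syl.le.trans inf_le_left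
  have el : ∀ s ∈ S ⊓ 𝐂(g ⋆ ψ.range), s * s = 1 := fun s hs => by
    by_contra s2
    obtain ⟨j, ρ1, ρ2⟩ := PGroup.exists_pow_not_mem_pow_mem (M := ⊥) (x := s ^ 2)
      (Core.isPGroup_subgroup_iff.1 d.syl.pgroup _ (pow_mem hs.1 2)) (by rwa [mem_bot, sq])
    rw [← pow_mul s, mul_comm, pow_mul, mem_bot, sq] at ρ1 ρ2
    have hρ := pow_mem hs (2 ^ j)
    generalize s ^ 2 ^ j = ρ at ρ1 ρ2 hρ
    rw [sq] at ρ2
    have nρ := SN hρ.1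
    have nU : ρ ∈ 𝐍(T ⊓ ψ.range) := norm_inf (le_norm T) h.nT (d.sT hρ.1)
    have a4 : au ψ h.inj ⟨ρ, nρ⟩ ^ 4 = 1 := by
      rw [← map_pow, ← map_one (au ψ h.inj)]
      exact congrArg _ (Subtype.ext (show ρ ^ 4 = 1 by simpa [pow_succ, mul_assoc] using ρ2))
    have aZ : ∀ c ∈ Zc U, au ψ h.inj ⟨ρ, nρ⟩ c ∈ Zc U := fun c hc => by
      obtain ⟨c', hc', e1⟩ := h.zc' (zc_norm nU (h.zc hc))
      rwa [(au_eq nρ).2 e1.symm]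
    have i := e.2 _ a4 (fun x hx => by
        refine h.hU.le (mem_comap.2 ?_)
        rw [au_ap]
        exact (conj_mem_of_norm nU (h.uT hx)).1)
      (fix_of_sq (Z := Zc U) (fun _ hx => hx.2.2) aZ a4 fun c hc e1 => by
        have c1 : ψ c ∈ 𝐂[ρ * ρ] := (au_fix (h := h.inj) (mul_mem nρ nρ)).1 (by
          rw [show (⟨ρ * ρ, mul_mem nρ nρ⟩ : 𝐍(ψ.range)) = ⟨ρ, nρ⟩ * ⟨ρ, nρ⟩ from rfl, map_mul]; exact e1)
        have c2 := std_cn2 d.m.std (mul_mem hρ.2 hρ.2) (o2 ρ1 ρ2) c1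
        have m := mul_mem (aZ c hc) (inv_mem hc)
        by_contra ne
        refine h.noB m (iv _ ?_ (fun e => ne (mul_inv_eq_one.1 (h.inj (e.trans (map_one ψ).symm)))) (h.zc m).2.2)
        have := mul_mem hρ.2 (conj_mem_of_norm (norm_cent le_rfl c2) (inv_mem hρ.2))
        rwa [map_mul, map_inv, au_ap, mul_assoc ρ, mul_assoc ρ])
    rw [← map_mul] at i
    exact ρ1 (out _ (mul_mem hρ.2 hρ.2) ρ2 ((au_inn (mul_mem nρ nρ)).1 i))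
  have r1 := o2_ne o
  have r2 := o2_sq o
  have rM : r ∈ 𝐂(g ⋆ ψ.range) := hr.2
  have cm : ∀ s ∈ S ⊓ 𝐂(g ⋆ ψ.range), s * r = r * s := fun s hs => by
    have := el _ (mul_mem hs hr)
    rw [← inv_eq_of_mul_eq_one_right this, mul_inv_rev, inv_eq_of_mul_eq_one_right r2, inv_eq_of_mul_eq_one_right (el s hs)]
  have eR : S ⊓ 𝐂(g ⋆ ψ.range) = zpowers r := le_antisymm (fun s hs => by
    rcases h.cy3 e.1 (SN hs.1) (SN hr.1) (el s hs) r2 (cm s hs) with m | m | m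
    · exact out s hs.2 (el s hs) m ▸ one_mem _
    · exact absurd (out r hr.2 r2 m) r1
    · exact eq_inv_of_mul_eq_one_left (out _ (mul_mem hs hr).2 (el _ (mul_mem hs hr)) m) ▸ inv_mem (mem_zpowers r))
    (zpowers_le.2 hr)
  have ne := ne_bot_of_mem hr r1
  obtain ⟨y, -, -, y1, y2, -⟩ := d.inv ne fun l => h.small h.uq e.1 (by
    rw [← le_antisymm (inf_le_inf_right _ d.sT) (le_inf l inf_le_right), ← d.card_eq ne, eR, Nat.card_zpowers, o])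
  obtain ⟨z, hz, ez⟩ := y2 r hr
  have ir : Iv ψ.range r := ⟨o, g, hr.2⟩
  have iz : Iv ψ.range (r * z) := ez ▸ ir.conj y
  have z1 : z ≠ 1 := by
    rintro rfl
    exact r1 (y1 r hr (mem_cent1.2 (mul_inv_eq_iff_eq_mul.1 (ez.trans (mul_one r)))))
  have zr : z * r = r * z := mem_cent.1 (d.comm hr) z hz
  have z2 : z * z = 1 := by
    have := o2_sq iz.1
    rwa [mul_assoc, ← mul_assoc z, zr, mul_assoc, ← mul_assoc, r2, one_mul] at this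
  obtain ⟨l, hl, l1, l2⟩ := zstar_in h.std.1 h.pZ (SN hr.1) o fun m => r1 (d.one m hr.2 (sq_pow r2))
  have ex : l * r * l⁻¹ = r * (r⁻¹ * l * r * l⁻¹) := by group
  have xL : r⁻¹ * l * r * l⁻¹ ∈ ψ.range := mul_mem (conj_mem_of_norm' (SN hr.1) hl) (inv_mem hl)
  generalize r⁻¹ * l * r * l⁻¹ = x at ex xL
  have ix : Iv ψ.range (r * x) := ex ▸ ir.conj l
  have ixz : Iv ψ.range (r * (x * z)) := by
    have := iz.conj l
    rwa [mul_assoc, mul_assoc, ← mem_cent.1 hz.2 _ (inv_mem hl), ← mul_assoc, ← mul_assoc, ex, mul_assoc] at this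
  have xr : x ∈ 𝐂[r] := (mul_mem_cancel_left (self_mem_cent1 r)).1 (ex ▸ l2)
  have x1 : x ≠ 1 := fun e => l1 (by rw [ex, e, mul_one])
  have x2 : x * x = 1 := by
    have := o2_sq ix.1
    rwa [mul_assoc, ← mul_assoc x, mem_cent1.1 xr, mul_assoc, ← mul_assoc, r2, one_mul] at this
  have xK : x ∉ 𝐂(ψ.range) := fun m => x1 (mem_bot.1 (h.zb' ▸ mem_inf.2 ⟨xL, m⟩))
  have xz : x * z = z * x := mem_cent.1 hz.2 x xL
  obtain ⟨χ, e1, f⟩ := h.frame d.m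
  have nM := std_cn2 d.m.std hr.2 o
  have n' : ∀ w, Iv ψ.range w → w ∈ g ⋆ ψ.range ⊔ 𝐂(g ⋆ ψ.range) → w ∈ 𝐂(g ⋆ ψ.range) := fun w i => n.conj g w ((iv_iff g).2 i)
  have k := f.cy3 e.1 (e1 ▸ nM xr) (e1 ▸ nM (mem_cent1.2 zr)) x2 z2 xz
  rw [e1] at k
  rcases k with m | m | m
  · have := (mul_mem_cancel_left rM).1 (n' _ ix (mul_mem (mem_sup_right hr.2) m))
    exact xK (n x (iv x this x1 x2) (mem_sup_left xL))
  · exact z1 (d.one hz.2 (n' z (iv_of (o2 z1 z2) hz.2) m) (sq_pow z2))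
  · have := (mul_mem_cancel_left rM).1 (n' _ ixz (mul_mem (mem_sup_right hr.2) m))
    exact xK ((mul_mem_cancel_right (mem_inf.1 hz).2).1 (n _ (iv _ this (fun e => xK (eq_inv_of_mul_eq_one_left e ▸ inv_mem hz.2))
      (mul_sq xz x2 z2)) (mul_mem_sup xL hz.2)))

/-- `r` from `exists_r`, `exists_pd` with `W = ⟨r⟩`, a frame `ψ'` for `(L, T')`.  `R = S ⊓ C(M)` embeds in `Out Y` (`NI`), so it is cyclic.
If `ρ ∈ R` has order 4, `α = au ρ` fixes `Zc U` (`fix_of_sq`: if `ρ²` centralises `ψ' c` then `[ρ, ψ' c] ∈ C(M) ⊓ ψ' (Zc U)` is trivial by `noB`),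
so `ρ²` is inner.  Hence `R = ⟨r⟩`, `R₁ = ⟨z⟩` (`card_eq`); `Q ≰ S` (`Sf.small`), so `y r y⁻¹ = r z ∈ 𝓘` (`Pd.inv`).  `zstar_in`:
`l r l⁻¹ = r x`, `1 ≠ x ∈ L ⊓ C(r)`, `x² = 1`; `r x, r x z = l (r z) l⁻¹ ∈ 𝓘`.  None of `z`, `r x`, `r x z` lies in `C(M)` (else `x` or `x z` is in `𝓘` and
inner on `L`), so `z`, `x`, `x z` are all outer on `M` (`NI.conj`), against `Cy 2 (Out Y)`. -/
theorem o1 (n : NI ψ.range) (e : O1 U) : False := by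
  obtain ⟨g, ne, r, hr, o⟩ := h.exists_r
  obtain ⟨S, T', V, d, l⟩ := h.toFm.exists_pd ne (pg_zp (sq_pow (o2_sq o)))
    (zpowers_le.2 ⟨hr.2, cent_le_norm _ hr.1⟩)
  obtain ⟨χ, e1, f⟩ := h.frame1 d.l
  rw [← e1] at n d hr
  exact f.o1' n e d ⟨l (mem_zpowers r), hr.1⟩ o

/-- `σ = au r` is outer; `F` = class of `au χ ∘ ψ` on `Fix σ`; `(ψ l)⁻¹ * r * ψ l = ψ e * r ∈ 𝓘` is inner on `M`, so `ψ e ∈ C(M)` is a member of
`𝓘` in `L` -/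
theorem os (n : NI ψ.range) (e : OS Y) : False := by
  obtain ⟨g, ne, r, hr, o⟩ := h.exists_r
  obtain ⟨χ, e1, f⟩ := h.frame (h.toFm.conj g)
  have r2 := o2_sq o
  have ir : Iv ψ.range r := ⟨o, g, hr.1⟩
  have nM := std_cn2 f.std (e1 ▸ hr.1) o
  obtain ⟨l, hl, l1, el⟩ := e (au ψ h.inj ⟨r, hr.2⟩)
    (by rw [← map_mul, ← map_one (au ψ h.inj)]; exact congrArg _ (Subtype.ext r2))
    (fun i => ne (std_ti h.std (n r ir ((au_inn hr.2).1 i)) hr.1 (sq_pow r2) (o2_ne o)))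
    ((QJ.ou χ f.inj).comp (MonoidHom.codRestrict (ψ.comp (fixedSubgroup _).subtype) _ fun y => nM ((au_fix hr.2).1 y.2)))
  have c := (au_fix hr.2).1 hl
  have m := (QJ.ou_one (nM c)).1 el
  have i : Iv ψ.range (ψ (l⁻¹ * au ψ h.inj ⟨r, hr.2⟩ l) * r) := by
    have := ir.conj (ψ l)⁻¹
    rwa [map_mul, map_inv, au_ap, show (ψ l)⁻¹ * (r * ψ l * r⁻¹) * r = (ψ l)⁻¹ * r * (ψ l)⁻¹⁻¹ by group]
  generalize l⁻¹ * au ψ h.inj ⟨r, hr.2⟩ l = x at l1 c m i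
  rw [e1] at m
  have m1 := (mul_mem_cancel_right (mem_inf.1 hr).1).1 (n.conj g _ ((iv_iff g).2 i) (mul_mem m (mem_sup_right hr.1)))
  have x2 : ψ x * ψ x = 1 := by
    have := o2_sq i.1
    rwa [mul_assoc, ← mul_assoc r, ← mem_cent1.1 c, mul_assoc, r2, mul_one] at this
  exact l1 (h.eq_one (n _ ⟨o2 (fun e => l1 (h.inj (e.trans (map_one ψ).symm))) x2, g, m1⟩ (mem_sup_left ⟨x, rfl⟩)))

end Sg

theorem Sf.mn (h : Sf ψ T) (e : Mn Y) : False :=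
  let ⟨_, a, b, c⟩ := e
  let ⟨_, _, k⟩ := h.sg a
  c.elim (k.o1 (k.ni b)) (k.os (k.ni b))

theorem Sf.mf (h : Sf ψ T) (e : Mf Y) (n : Nf 𝐂(ψ.range)) : False :=
  haveI := h.fin
  let ⟨U, a⟩ := e.1
  let ⟨_, r, k⟩ := h.sg a
  k.o1 (k.ni' e (r ▸ n)) (o1_of_card e.2.1 U)

/-- a model of `L` gives a frame -/
theorem Fm.sf (h : Fm L T) (hZ : center L = ⊥) {X : Type*} [Group X] (e : X ≃* L) : ∃ ψ : X →* G, ψ.range = L ∧ Sf ψ T := by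
  have r : (L.subtype.comp e.toMonoidHom).range = L := by
    rw [MonoidHom.range_comp, MonoidHom.range_eq_top.2 e.surjective, ← MonoidHom.range_eq_map, range_subtype]
  refine ⟨_, r, r.symm ▸ h, L.subtype_injective.comp e.injective, eq_bot_iff.2 fun x hx => ?_⟩
  have : e x ∈ center L := mem_center_iff.2 fun y => by
    obtain ⟨y, rfl⟩ := e.surjective y
    rw [← map_mul, ← map_mul, mem_center_iff.1 hx]
  rw [hZ, mem_bot] at this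
  exact e.injective (this.trans (map_one e).symm)

theorem Fm.mnE (h : Fm L T) (hZ : center L = ⊥) (e : MnE L) : False :=
  let ⟨_, _, ⟨f⟩, k⟩ := e
  let ⟨_, _, s⟩ := h.sf hZ f
  s.mn k

theorem Fm.mfE (h : Fm L T) (hZ : center L = ⊥) (e : MfE L) (n : Nf 𝐂(L)) : False :=
  let ⟨_, _, ⟨f⟩, k⟩ := e
  let ⟨_, r, s⟩ := h.sf hZ f
  s.mf k (r ▸ n)

end Cfsg.Lib.QJ
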