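import Cfsg.Agent.Lib.QJ.Pair
import Cfsg.Agent.Lib.Transfer.Extremal
import Cfsg.Agent.Lib.ZStar.Main
import Cfsg.Agent.Lib.Inv.StronglyEmbedded
import Cfsg.Agent.S1911
import Cfsg.Agent.Lib.ZD.Basic

/-! # QJ: the quasithin lemma, transfer, frames for simple `L` -/

set_option autoImplicit false
set_option linter.unusedSectionVars false

namespace Cfsg.Lib.QJ

open Subgroup Cfsg.Lib.BG Cfsg.Lib.Comp Cfsg.Lib.QS Cfsg.Lib.Transfer
open scoped Cfsg.Lib.Transfer commutatorElement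

variable {G Y : Type*} [Group G] [Finite G] [Group Y] {K L M Q T V X : Subgroup G} {g k k' r t x z : G} {n p : ℕ}

/-- `x = l * k`; with `N = 2 ^ a` large `(l ^ N) ^ p = 1 = (k ^ N) ^ p` and `x ∈ ⟨x ^ N⟩`.  If `k ^ N ∉ L` then `k ^ N` and a subgroup
`Z_p × Z_p` of `L` generate an elementary abelian group of order `p³` in `C(t)` (`k = l⁻¹ * x ∈ C(t)`). -/
theorem qt_mem (hG : H0 G) (ot : orderOf t = 2) (hL : L ≤ 𝐂[t]) (hZ : IsPGroup 2 ↥𝐙(L)) (pp : p.Prime) (p2 : p ≠ 2)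
    (nc : ¬ QT.Cy p L) (hx : x ∈ 𝐂[t]) (e : x ^ p = 1) (i : x ∈ L ⊔ 𝐂(L)) : x ∈ L := by
  have := Fact.mk pp
  obtain ⟨l, hl, k, hk, rfl⟩ := (mem_sup_left_norm (cent_le_norm L)).1 i
  have c : Commute l k := mem_cent.1 hk l hl
  have e' := eq_inv_of_mul_eq_one_left (c.mul_pow p ▸ e)
  obtain ⟨a, ha⟩ := hZ ⟨l ^ p, mem_inf.2 ⟨pow_mem hl p, e' ▸ 𝐂(L).inv_mem (pow_mem hk p)⟩⟩
  have ha : (l ^ p) ^ 2 ^ a = 1 := congrArg Subtype.val ha
  by_cases m : k ^ 2 ^ a ∈ L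
  · obtain ⟨j, hj⟩ := exists_pow_eq_self_of_coprime (x := l * k) (n := 2 ^ a)
      ((((Nat.coprime_primes Nat.prime_two pp).2 p2.symm).pow_left a).coprime_dvd_right (orderOf_dvd_of_pow_eq_one e))
    exact hj ▸ pow_mem (c.mul_pow _ ▸ mul_mem (pow_mem hl _) m) j
  simp only [QT.Cy, not_forall] at nc
  obtain ⟨P, hP, n⟩ := nc
  obtain ⟨E, hE⟩ := exists_elem_of_le_rk (p := p) (k := 2) (H := P.map L.subtype) (not_le.1 fun r =>
    n ((P.equivMapOfInjective _ L.subtype_injective).isCyclic.2 (cyclic_of_rk_le_one p2 (hP.map _) r)))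
  have EL := hE.le.trans (map_subtype_le P)
  have := (Elem.sup_zpowers (hE.of_le (EL.trans hL)) (pow_mem ((mul_mem_cancel_left (hL hl)).1 hx) (2 ^ a))
    (pow_mem (cent_anti EL hk) _) (by rw [← pow_mul, mul_comm, pow_mul, ← inv_eq_one, ← inv_pow, ← e', ha]) fun i => m (EL i)).le_rk
  have := hG.sq1 t ot p pp p2
  omega

/-- `Z*` in `L⟨r⟩`: `[r, l] ∈ L ⊓ O(L⟨r⟩)`, a normal subgroup of odd order of `L` (cf. `ON2.Sim.zstar`) -/
theorem zstar_in (hq : IsQuasisimple L) (hZ : IsPGroup 2 ↥𝐙(L)) (hr : r ∈ 𝐍(L)) (o : orderOf r = 2) (n : r ∉ 𝐂(L)) :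
    ∃ l ∈ L, l * r * l⁻¹ ≠ r ∧ l * r * l⁻¹ ∈ 𝐂[r] := by
  by_contra! hn
  have h4 := zpowers_le.2 hr
  have od := odd_of_le (GW.odd_Od (L ⊔ zpowers r)) (inf_le_left (b := L))
  have h5 : GW.Od (L ⊔ zpowers r) ⊓ L = ⊥ := by
    rcases qs_eq_or_le_centralizer hq inf_le_right
      (norm_inf (le_sup_left.trans (norm_pcore (le_norm (L ⊔ zpowers r)) {2}ᶜ)) (le_norm L)) with e | e
    · exact (qs_not_le_of_isSolvable hq (GW.odd_sol od) e.ge).elim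
    · exact inf_eq_left.2 (le_inf inf_le_right e) ▸ disjoint_of_coprime (GW.cop_two hZ od).symm
  refine n (mem_cent.2 fun g hg => ?_)
  have := mem_bot.1 (h5.le (mem_inf.2 ⟨ZD.zstar_sub o (mem_sup_right (mem_zpowers r)) (fun g hg e => ?_)
    (mem_sup_left hg), mul_mem (conj_mem_of_norm hr hg) (inv_mem hg)⟩))
  · rw [mul_inv_eq_one, mul_inv_eq_iff_eq_mul] at this
    exact this.symm
  obtain ⟨n, hn', w, hv, rfl⟩ := (mem_sup_left_norm h4).1 hg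
  have e1 : n * w * r * (n * w)⁻¹ = n * r * n⁻¹ := by
    rw [mul_assoc n, (mem_cent1.1 (zpowers_le.2 (self_mem_cent1 r) hv))]; group
  rw [e1] at e ⊢
  exact by_contra fun e2 => hn n hn' e2 (mem_cent1.2 e.symm)

theorem eq_of_mem_zp (o : orderOf x = 2) (h : r ∈ zpowers x) (r1 : r ≠ 1) (r2 : r * r = 1) : r = x :=
  Inv.eq_of_isCyclic_of_orderOf_two inferInstance h (mem_zpowers x) (Inv.ord_two_iff.2 ⟨r1, r2⟩) o

theorem nf_of_rank (h : PRankLE 2 1 K) : Nf K := fun a ha b hb a2 b2 c => by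
  by_contra! n
  have o := Inv.ord_two_iff.2 ⟨n.1, a2⟩
  have := ((Elem.zpowers ha o).sup_zpowers hb (by rw [cent_zpowers]; exact mem_cent1.2 c.symm) (sq b ▸ b2)
    fun i => n.2.2 (eq_of_mem_zp o i n.2.1 b2).symm).le_rk
  have := rk_le_iff.2 h
  omega

theorem nf_of_card (hQ : Syl 2 Q K) (h : Nat.card Q = 2) : Nf K := nf_of_rank (rk_le_iff.1 (Syl.rk_eq hQ ▸ rk_le_of_card (by rw [h]; rfl)))

theorem Nf.conj (h : Nf K) (g : G) : Nf (g ⋆ K) := by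
  rintro _ ⟨a, ha, rfl⟩ _ ⟨b, hb, rfl⟩ a2 b2 c
  have i := (MulAut.conj g).injective
  simp only [MulEquiv.coe_toMonoidHom, ← map_mul, EmbeddingLike.map_eq_one_iff, EmbeddingLike.apply_eq_iff_eq] at *
  exact h a ha b hb a2 b2 c

theorem Iv.conj (h : Iv L r) (g : G) : Iv L (g * r * g⁻¹) :=   let ⟨o, x, e⟩ := h
  ⟨(Inv.orderOf_conj' g r).trans o, g * x, by rw [← conj_conj, ← conj_centralizer]; exact conj_mem_conj.2 e⟩

theorem iv_iff (g : G) : Iv (g ⋆ L) r ↔ Iv L r := and_congr_right fun _ =>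
  ⟨fun ⟨x, e⟩ => ⟨x * g, conj_conj x g L ▸ e⟩, fun ⟨x, e⟩ => ⟨x * g⁻¹, by rwa [conj_conj, inv_mul_cancel_right]⟩⟩

theorem iv_of (o : orderOf r = 2) (h : r ∈ 𝐂(L)) : Iv L r := ⟨o, 1, by rwa [conj_one]⟩

theorem NI.conj (h : NI L) (g : G) : NI (g ⋆ L) := fun r i m => by
  rw [← conj_centralizer, ← conj_sup, mem_conj] at m
  rw [← conj_centralizer, mem_conj]
  exact h _ (by simpa using ((iv_iff g).1 i).conj g⁻¹) m

theorem mem_syl (hT : Syl 2 T ⊤) (o : orderOf z = 2) (c : z ∈ 𝐍(T)) : z ∈ T :=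
  Syl.ge_of_norm_p' hT le_top (isPGroup_zpowers_of_orderOf_eq o) (zpowers_le.2 c) (mem_zpowers z)

variable [IsSimpleGroup G]

/-- otherwise a character `χ` of `T` with `χ z ≠ 1` has a kernel `T₀ ∌ z` with `T / T₀` cyclic;
`Transfer.exists_conj_mem_and_conj_le` with `C = T` gives `g ∈ N(T)` with `g z g⁻¹ ∈ T₀` (cf. `Lib/LFE/F.lean`, `Lib/ES/SB1.lean`) -/
theorem tr0 (hG : H0 G) (hT : Syl 2 T ⊤) (o : orderOf z = 2) (c : z ∈ 𝐂(T))
    (u : ∀ g : G, g * z * g⁻¹ ∈ 𝐂(T) → g * z * g⁻¹ = z) : z ∈ ⁅T, T⁆ := by_contra fun n => by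
  have ha := mem_syl hT o (cent_le_norm T c)
  obtain ⟨T, rfl⟩ := Syl.top_iff_sylow.1 hT
  obtain ⟨φ, hφ⟩ := CommGroup.exists_apply_ne_one_of_hasEnoughRootsOfUnity (Abelianization T) ℂ
    (a := Abelianization.of ⟨z, ha⟩) fun e => n (by
      rw [← map_subtype_commutator]; exact mem_map_of_mem _ (Abelianization.ker_of T ▸ e : (⟨z, ha⟩ : T) ∈ _))
  let χ := φ.comp Abelianization.of
  have e : (χ.ker.map (T : Subgroup G).subtype).subgroupOf T = χ.ker :=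
    comap_map_eq_self_of_injective (subtype_injective _) _
  have : ((χ.ker.map (T : Subgroup G).subtype).subgroupOf T).Normal := by rw [e]; infer_instance
  obtain ⟨g, h1, -, h2⟩ := exists_conj_mem_and_conj_le T (T := χ.ker.map (T : Subgroup G).subtype)
    (isCyclic_of_injective_ringHom
    (((Units.coeHom ℂ).comp (QuotientGroup.kerLift _)).comp (QuotientGroup.quotientMulEquivOfEq e).toMonoidHom)
    ((Units.val_injective.comp (QuotientGroup.kerLift_injective _)).comp (MulEquiv.injective _))) (Inv.ord_two_iff.1 o).2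
    (mem_sup_right (isQuasisimple_commutator_eq_top (isQuasisimple_of_isSimpleGroup hG.nab) ▸ mem_top z)) T.2 (le_cent1_iff.2 c)
  rw [u g (conj_mem_of_norm (norm_cent le_rfl (mem_normalizer_of_conj_le h2)) c)] at h1
  exact hφ ((mem_map_iff_mem (x := ⟨z, ha⟩) (subtype_injective _)).1 h1)

/-- if `g z g⁻¹ ∈ C(T)` then `T ≤ N(g ⋆ L)`, so `g z g⁻¹ ∈ K` -/
theorem Fm.tr (h : Fm L T) (u : Uq L T) (n : Nf 𝐂(L)) (hz : z ∈ 𝐂(L)) (c : z ∈ 𝐂(T)) (o : orderOf z = 2) : z ∈ ⁅T, T⁆ := tr0 h.hy h.syl o c fun g e => by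
  have o' := (Inv.orderOf_conj' g z).trans o
  have m : g * z * g⁻¹ ∈ 𝐂(g ⋆ L) := conj_centralizer g L ▸ conj_mem_conj.2 hz
  rw [u g ((le_cent1_iff.2 e).trans (std_cn2 (std_conj h.std g) m o'))] at m
  exact ((n _ m _ hz (Inv.ord_two_iff.1 o').2 (Inv.ord_two_iff.1 o).2
    (mem_cent.1 e z (mem_syl h.syl o (cent_le_norm T c))).symm).resolve_left (Inv.ord_two_iff.1 o').1).resolve_left
      (Inv.ord_two_iff.1 o).1

theorem Fm.not_normal (h : Fm L T) : ¬ L.Normal := fun n => by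
  obtain ⟨z, a, -, o⟩ := h.exists_z
  rcases n.eq_bot_or_eq_top with e | e
  · exact qs_ne_bot h.std.1 e
  rcases (inferInstance : 𝐂(L).Normal).eq_bot_or_eq_top with i | i
  · exact h.Q_ne (by rw [i, inf_bot_eq])
  · exact qs_not_le_centralizer h.std.1 (i ▸ le_top)

variable {ψ : Y →* G} {U : Subgroup Y} {a b c : Y}

namespace Sf

variable (h : Sf ψ T)
include h

theorem fin : Finite Y := .of_injective _ h.inj

theorem zb' : ψ.range ⊓ 𝐂(ψ.range) = ⊥ := eq_bot_iff.2 fun _ ⟨⟨c, e⟩, hc⟩ => by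
  rw [← e, mem_bot.1 (h.zb ▸ mem_center_iff.2 fun a => h.inj (by
    rw [map_mul, map_mul, e]; exact mem_cent.1 hc _ ⟨a, rfl⟩) : c ∈ (⊥ : Subgroup Y)), map_one]
  exact one_mem _

theorem eq_one (hc : ψ c ∈ 𝐂(ψ.range)) : c = 1 := h.inj (by rw [map_one]; exact mem_bot.1 (h.zb' ▸ mem_inf.2 ⟨⟨c, rfl⟩, hc⟩))

theorem pZ : IsPGroup 2 ↥𝐙(ψ.range) := h.zb' ▸ IsPGroup.of_bot

theorem sylU : Syl 2 (T.comap ψ) ⊤ := (Hall.map_iff h.inj).1 (by
  rw [map_comap_eq, ← MonoidHom.range_eq_map, inf_comm]; exact h.sylL)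

omit h in
theorem dec (hr : r ∈ ψ.range ⊔ 𝐂(ψ.range)) : ∃ c, ∃ k ∈ 𝐂(ψ.range), r = ψ c * k :=   let ⟨_, ⟨c, e⟩, k, hk, i⟩ := (mem_sup_left_norm (cent_le_norm ψ.range)).1 hr
  ⟨c, k, hk, e ▸ i.symm⟩

theorem uniq (hk : k ∈ 𝐂(ψ.range)) (hk' : k' ∈ 𝐂(ψ.range)) (e : ψ a * k = ψ b * k') : a = b ∧ k = k' := by
  have := inv_mul_eq_one.1 (h.eq_one (c := b⁻¹ * a) (by
    rw [map_mul, map_inv, eq_mul_inv_of_mul_eq e, mul_assoc, inv_mul_cancel_left]; exact mul_mem hk' (inv_mem hk)))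
  subst this
  exact ⟨rfl, mul_left_cancel e⟩

theorem pow (hk : k ∈ 𝐂(ψ.range)) (e : (ψ c * k) ^ n = 1) : c ^ n = 1 ∧ k ^ n = 1 := h.uniq (pow_mem hk n) (one_mem _) (by
  rw [map_pow, map_one, one_mul, ← Commute.mul_pow (mem_cent.1 hk _ ⟨c, rfl⟩), e])

theorem cent (hk : k ∈ 𝐂(ψ.range)) (hx : x ∈ 𝐍(ψ.range)) (e : x ∈ 𝐂[ψ c * k]) : x ∈ 𝐂[ψ c] ∧ x ∈ 𝐂[k] := by
  obtain ⟨d, hd⟩ := conj_mem_of_norm hx (⟨c, rfl⟩ : ψ c ∈ ψ.range)
  obtain ⟨rfl, i⟩ := h.uniq (a := d) (b := c) (conj_mem_of_norm (norm_cent le_rfl hx) hk) hk (by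
    rw [hd, conj_mul, mem_cent1.1 e, mul_inv_cancel_right])
  exact ⟨mem_cent1.2 (mul_inv_eq_iff_eq_mul.1 hd.symm), mem_cent1.2 (mul_inv_eq_iff_eq_mul.1 i)⟩

/-- the map `N(L) → Out Y` -/
noncomputable def ou : 𝐍(ψ.range) →* Out Y := (QuotientGroup.mk' _).comp (au ψ h.inj)

omit [Finite G] [IsSimpleGroup G] in
theorem ou_one (hx : x ∈ 𝐍(ψ.range)) : h.ou ⟨x, hx⟩ = 1 ↔ x ∈ ψ.range ⊔ 𝐂(ψ.range) :=
  (QuotientGroup.eq_one_iff _).trans (au_inn hx)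

theorem perf (s : Group.IsSolvable (Out Y)) (hX : X ≤ 𝐍(ψ.range)) (e : ⁅X, X⁆ = X) : X ≤ ψ.range ⊔ 𝐂(ψ.range) := fun x hx => (h.ou_one (hX hx)).1 <| by
  have i : ⁅X.subgroupOf 𝐍(ψ.range), X.subgroupOf 𝐍(ψ.range)⁆ = X.subgroupOf 𝐍(ψ.range) :=
    map_injective (subtype_injective _) (by rw [map_commutator, subgroupOf_map_subtype, inf_eq_left.2 hX, e])
  exact mem_bot.1 (eq_bot_of_perfect_of_le_solvable (K := (X.subgroupOf _).map h.ou) (by rw [← map_commutator, i])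
    (inferInstance : Group.IsSolvable (⊤ : Subgroup (Out Y))) le_top ▸ mem_map_of_mem _ hx)

theorem cop (hx : x ∈ 𝐍(ψ.range)) (e : x ^ p = 1) (pp : p.Prime) (n : ¬ p ∣ Nat.card (Out Y)) :
    x ∈ ψ.range ⊔ 𝐂(ψ.range) := (h.ou_one hx).1 <| orderOf_eq_one_iff.1 <|
  Nat.eq_one_of_dvd_coprimes ((Nat.Prime.coprime_iff_not_dvd pp).2 n)
    (orderOf_dvd_of_pow_eq_one (by rw [← map_pow]; exact (congrArg h.ou (Subtype.ext e)).trans (map_one _))) (orderOf_dvd_natCard _)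

/-- compose `ψ` with `conj x` (`Fm.exists_conj`) and with an inner automorphism of `Y` (Sylow's theorem in `Y`) -/
theorem frame (hU : Syl 2 U ⊤) (k : Fm (g ⋆ ψ.range) V) : ∃ χ : Y →* G, χ.range = g ⋆ ψ.range ∧ Sf χ V ∧ V.comap χ = U := by
  have := h.fin
  obtain ⟨x, a, rfl⟩ := h.toFm.exists_conj k
  obtain ⟨y, -, e⟩ := Syl.exists_conj_eq hU h.sylU
  have r : ((MulAut.conj x).toMonoidHom.comp (ψ.comp (MulAut.conj y).toMonoidHom)).range = g ⋆ ψ.range := by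
    rw [MonoidHom.range_comp, MonoidHom.range_comp, MonoidHom.range_eq_map (MulAut.conj y).toMonoidHom, conj_top,
      ← MonoidHom.range_eq_map, a]
  refine ⟨_, r, ⟨r ▸ k, (MulAut.conj x).injective.comp (h.inj.comp (MulAut.conj y).injective), h.zb⟩, Subgroup.ext fun c => ?_⟩
  exact conj_mem_conj.trans ((SetLike.ext_iff.1 e _).trans conj_mem_conj)

/-- `Fm.tr` for `z` of `exists_z`; `z ∉ L` -/
theorem abel (u : Uq ψ.range T) (n : Nf 𝐂(ψ.range)) (e : ⁅T, T⁆ ≤ ψ.range) : False :=   let ⟨_, a, b, o⟩ := h.exists_z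
  (Inv.ord_two_iff.1 o).1 (mem_bot.1 (h.zb' ▸ mem_inf.2 ⟨e (h.tr u n a.2 b o), a.2⟩))

/-- `T ⊓ (L ⊔ K) = (T ⊓ L) × ⟨z⟩` with `z ∈ Z(T)` has a cyclic quotient `T / …`; so `T / (T ⊓ L)` is abelian; `abel`, `nf_of_card` -/
theorem small (u : Uq ψ.range T) (c : QT.Cy 2 (Out Y)) (e : Nat.card ↥(T ⊓ 𝐂(ψ.range)) = 2) : False := by
  have := h.fin
  obtain ⟨z, a, b, o⟩ := h.exists_z
  have QT : T ⊓ 𝐂(ψ.range) ≤ 𝐂(T) :=
    zpowers_eq_of_prime (e ▸ Nat.prime_two) a (Inv.ord_two_iff.1 o).1 ▸ zpowers_le.2 b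
  obtain ⟨_, ⟨t, ht, rfl⟩, i⟩ := cyclic_iff.1 (c ((T.subgroupOf _).map h.ou) (h.syl.pgroup.comap_subtype.map _))
  have d : ∀ x ∈ T, ∃ l ∈ ψ.range, ∃ w ∈ T ⊓ 𝐂(T) ⊔ zpowers t.1, x = l * w := fun x hx => by
    obtain ⟨j, hj⟩ : h.ou ⟨x, h.nT hx⟩ ∈ zpowers (h.ou t) := i ▸ mem_map_of_mem _ hx
    have m : x * (t.1 ^ j)⁻¹ ∈ T := mul_mem hx (inv_mem (zpow_mem ht j))
    obtain ⟨c, k, hk, e⟩ := dec ((h.ou_one (h.nT m)).1 (by
      change h.ou (⟨x, h.nT hx⟩ * (t ^ j)⁻¹) = 1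
      rw [map_mul, map_inv, map_zpow, ← hj, mul_inv_cancel]))
    obtain ⟨n, hn⟩ := h.syl.pgroup ⟨_, m⟩
    have kQ : k ∈ T ⊓ 𝐂(ψ.range) := Syl.ge_of_norm_p' h.sylK (zpowers_le.2 hk)
      (Inv.isPGroup_zpowers (h.pow (c := c) (n := 2 ^ n) hk (by rw [← e]; exact congrArg Subtype.val hn)).2) (zpowers_le.2 <|
        (mul_mem_cancel_left (cent_le_norm _ (cent_symm (B := ψ.range) inf_le_right ⟨c, rfl⟩))).1 (by
          rw [← e]; exact norm_inf (le_norm T) (norm_cent h.nT) m)) (mem_zpowers k)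
    exact ⟨_, ⟨c, rfl⟩, _, mul_mem_sup ⟨kQ.1, QT kQ⟩ (zpow_mem_zpowers _ j), by rw [← mul_assoc, ← e, inv_mul_cancel_right]⟩
  have AT : T ⊓ 𝐂(T) ⊔ zpowers t.1 ≤ T := sup_le inf_le_left (zpowers_le.2 ht)
  have ab := abelian_cent (abelian_sup (abelian_center T) (abelian_of_cyclic (A := zpowers t.1) inferInstance)
    (inf_le_right.trans (cent_anti (zpowers_le.2 ht))))
  refine h.abel u (nf_of_card h.sylK e) (comm_le_iff.2 fun x hx y hy => ?_)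
  obtain ⟨l, hl, v, hv, rfl⟩ := d x hx
  obtain ⟨m, hm, w, hw, rfl⟩ := d y hy
  have := mul_mem (mul_mem (mul_mem hl (conj_mem_of_norm (h.nT (AT hv)) hm)) (conj_mem_of_norm (h.nT (AT hw)) (inv_mem hl))) (inv_mem hm)
  rwa [show l * v * (m * w) * (l * v)⁻¹ * (m * w)⁻¹ = l * (v * m * v⁻¹) * (v * w * v⁻¹ * l⁻¹ * w⁻¹) * m⁻¹ by group,
    mem_cent.1 (ab hw) v hv, mul_inv_cancel_right]

/-- otherwise S1911 applies to `K`: `K` is not normal, so `N(K)` is strongly embedded in `G` and all involutions are conjugate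
(`Inv.se_isConj`): an involution `a ∈ L` (`L` is not solvable/odd: it is quasisimple) lies in a conjugate of `K`, which is not `K` -/
theorem exists_r : ∃ g : G, g ⋆ ψ.range ≠ ψ.range ∧ ∃ r ∈ 𝐂(g ⋆ ψ.range) ⊓ 𝐍(ψ.range), orderOf r = 2 := by
  by_contra! n
  have nK := h.std.2.2.2
  rcases Cfsg.Agent.S1911.result 𝐂(ψ.range) h.std.2.1 (fun g hg => Nat.not_even_iff_odd.1 fun e => by
    obtain ⟨r, hr, o⟩ := Inv.exists_involution_mem_of_even e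
    rw [← nK] at hg
    exact n g (fun e => hg (norm_of_conj_eq e)) r (by rwa [← conj_centralizer, nK]) o) with i | i
  · exact h.not_normal (normalizer_eq_top_iff.1 (nK.trans (normalizer_eq_top_iff.2 i)))
  obtain ⟨z, hz, -, o⟩ := h.exists_z
  obtain ⟨a, ha, oa⟩ := Inv.exists_involution_mem_of_even (H := ψ.range) (Nat.not_odd_iff_even.1 fun e =>
    isQuasisimple_not_isSolvable h.std.1 (GW.odd_sol e))
  have zN := subset_normalClosure (s := (𝐂(ψ.range) : Set G)) hz.2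
  have tp := (normalClosure_normal (s := (𝐂(ψ.range) : Set G))).eq_bot_or_eq_top.resolve_left (ne_bot_of_mem zN (Inv.ord_two_iff.1 o).1)
  obtain ⟨g, hg⟩ := isConj_iff.1 (Inv.se_isConj i (s := ⟨z, zN⟩) (t := ⟨a, tp ▸ mem_top a⟩)
    ((orderOf_coe _).symm.trans o) ((orderOf_coe _).symm.trans oa))
  have m : a ∈ 𝐂(g.1 ⋆ ψ.range) := by
    rw [← conj_centralizer, show a = g * z * g.1⁻¹ from (congrArg Subtype.val hg).symm]; exact conj_mem_conj.2 hz.2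
  exact n g (fun e => (Inv.ord_two_iff.1 oa).1 (mem_bot.1 (h.zb' ▸ mem_inf.2 ⟨ha, e ▸ m⟩))) a ⟨m, le_norm _ ha⟩ oa

end Sf

namespace Sg

variable (h : Sg ψ T U)
include h

theorem mapU : U.map ψ = T ⊓ ψ.range := by rw [← h.hU, map_comap_eq, inf_comm]

theorem mapZ : (Zc U).map ψ = Zc (T ⊓ ψ.range) := by
  rw [← h.mapU]
  ext x
  refine ⟨fun ⟨c, hc, e⟩ => e ▸ ⟨mem_map_of_mem _ hc.1, map_cent ψ (zpowers_le.2 hc.2.1) (mem_map_of_mem _ (mem_zpowers c)),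
    by rw [← map_mul, hc.2.2, map_one]⟩, fun ⟨⟨c, hc, e⟩, a, b⟩ => ⟨c, ⟨hc, mem_cent.2 fun y hy => h.inj ?_, h.inj ?_⟩, e⟩⟩
  · rw [map_mul, map_mul, e]; exact mem_cent.1 a _ (mem_map_of_mem _ hy)
  · rw [map_mul, e, b, map_one]

theorem frame (k : Fm (g ⋆ ψ.range) V) : ∃ χ : Y →* G, χ.range = g ⋆ ψ.range ∧ Sg χ V U :=
  let ⟨χ, a, b, c⟩ := h.toSf.frame h.p1.syl k
  ⟨χ, a, b, c, h.p1⟩

theorem frame1 (k : Fm ψ.range V) : ∃ χ : Y →* G, χ.range = ψ.range ∧ Sg χ V U := by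
  simpa only [conj_one] using h.frame (g := 1) (by rwa [conj_one])

end Sg

theorem Sf.sg (h : Sf ψ T) (k : P1 U) : ∃ χ : Y →* G, χ.range = ψ.range ∧ Sg χ T U := by
  obtain ⟨χ, a, b, c⟩ := h.frame (g := 1) k.syl (by rw [conj_one]; exact h.toFm)
  exact ⟨χ, a.trans (conj_one _), b, c, k⟩

end Cfsg.Lib.QJ
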