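import Cfsg.Agent.Lib.QJ.Small
import Cfsg.Agent.Lib.M7.HeI
import Cfsg.Agent.Lib.KI.SpSuz
import Cfsg.Agent.Lib.KI.SpCo3
import Cfsg.Agent.Lib.CoT.Loc
import Cfsg.Agent.S5388
import Cfsg.Agent.Lib.Calc.HUE

/-! # QJ: centralisers of 2-central involutions in `Suz`, `Co₃`, `He`, `Co₁`, `HN`.
Pattern: `M7.he_cls` (classes and centraliser orders from the data of `KI.Sp*`); the other class is not 2-central because the
2-part of its centraliser order is too small (`Tc z → (Nat.card G).factorization 2`-part divides `|C(z)|`). -/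

set_option autoImplicit false
set_option linter.unusedSectionVars false
set_option maxRecDepth 100000

namespace Cfsg.Lib.QJ

open Subgroup Cfsg.Lib.BG Cfsg.Lib.Comp Cfsg.Lib.QS
open scoped Cfsg.Lib.Transfer commutatorElement

variable {G : Type*} [Group G] [Finite G] {z : G}

theorem Tc.odd (c : Tc z) : ¬ 2 ∣ 𝐂[z].index := fun d =>
  let ⟨_, a, b⟩ := c
  a.not_dvd' (by rw [relIndex_top_right]; exact d.trans (index_dvd_of_le b))

theorem els_tr {X : Type*} [Group X] (e : Nonempty (G ≃* X)) (P : ℕ → Prop) (hz : orderOf z = 2) (c : Tc z)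
    (h : Finite X → ∀ x : X, orderOf x = 2 → ¬ 2 ∣ 𝐂[x].index → P (Nat.card 𝐂[x])) : P (Nat.card 𝐂[z]) := by
  obtain ⟨e⟩ := e
  have := h (.of_equiv _ e.toEquiv) (e z) ((e.orderOf_eq z).trans hz)
  rw [← cent1_mp e, index_map_of_bijective e.bijective, card_map_of_injective e.injective] at this
  exact this c.odd

theorem els_two {a b : G} {m n N : ℕ} (h : IsConj z a ∨ IsConj z b) (ha : Nat.card 𝐂[a] = m) (hb : Nat.card 𝐂[b] = n) (hG : Nat.card G = N)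
    (d : 2 * n ∣ N) (o : ¬ 2 ∣ 𝐂[z].index) : Nat.card 𝐂[z] = m := by
  rcases h with h | h
  · rw [M7.card_cent_conj h, ha]
  · have := 𝐂[z].index_mul_card
    rw [M7.card_cent_conj h, hb, hG] at this
    exact (o (Nat.dvd_of_mul_dvd_mul_right (hb ▸ Nat.card_pos) (this ▸ d))).elim

section
attribute [local instance] Calc.Suz.act

open KI KI.Suz Calc F2 Grp in
theorem suz_cls : ∃ a b : Spor.Suz, (∀ t, orderOf t = 2 → IsConj t a ∨ IsConj t b) ∧ Nat.card 𝐂[a] = 3317760 ∧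
    Nat.card 𝐂[b] = 161280 := by
  have := OutS.Suz.netG.fin
  have C := cx OutS.Suz.netG OutS.Suz.cA (ap2_eq 11) K.w0
  have h := band_eq_true.1 (of_dicK K.ok)
  refine ⟨_, _, fun t ht => ?_, card_cen1 (cx OutS.Suz.netG OutS.Suz.cA (ap2_eq 11) aA.w0) (band_eq_true.1 (of_dicK aA.ok)).1,
    card_cen1 (cx OutS.Suz.netG OutS.Suz.cA (ap2_eq 11) bA.w0) (band_eq_true.1 (of_dicK bA.ok)).1⟩
  obtain ⟨i, hi, k⟩ := C.exists_isConj (C.pgp two_pos h.1) (by decide) (by decide) h.2 ht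
  simp only [List.mem_cons, List.not_mem_nil, or_false] at hi
  rcases hi with rfl | rfl
  · exact .inl (gam_eq (w0 := K.w0) (i := 0) (w1 := aA.w0) (j := 0) OutS.Suz.netG (by decide) ▸ k)
  · exact .inr (gam_eq (w0 := K.w0) (i := 1) (w1 := bA.w0) (j := 0) OutS.Suz.netG (by decide) ▸ k)

end

open KI KI.Co3 Calc F2 Grp in
theorem co3_cls : ∃ a b : Leech.co3, (∀ t, orderOf t = 2 → IsConj t a ∨ IsConj t b) ∧ Nat.card 𝐂[a] = 2903040 ∧
    Nat.card 𝐂[b] = 190080 := by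
  have := OutS.Co3.netG.fin
  have C := cx OutS.Co3.netG OutS.Co3.cA rfl K.w0
  have h := band_eq_true.1 (of_dicK K.ok)
  refine ⟨_, _, fun t ht => ?_, card_cen1 (cx OutS.Co3.netG OutS.Co3.cA rfl aA.w0) (band_eq_true.1 (of_dicK aA.ok)).1,
    card_cen1 (cx OutS.Co3.netG OutS.Co3.cA rfl bA.w0) (band_eq_true.1 (of_dicK bA.ok)).1⟩
  obtain ⟨i, hi, k⟩ := C.exists_isConj (C.pgp two_pos h.1) (by decide) (by decide) h.2 ht
  simp only [List.mem_cons, List.not_mem_nil, or_false] at hi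
  rcases hi with rfl | rfl
  · exact .inl (gam_eq (w0 := K.w0) (i := 0) (w1 := aA.w0) (j := 0) OutS.Co3.netG (by decide) ▸ k)
  · exact .inr (gam_eq (w0 := K.w0) (i := 1) (w1 := bA.w0) (j := 0) OutS.Co3.netG (by decide) ▸ k)

/-- if `C(a)` has odd index and `F*(C(a))` is extraspecial, every 2-central involution is conjugate to `a` -/
theorem els_es {a : G} (ha : orderOf a = 2) (o : ¬ 2 ∣ 𝐂[a].index) {Q : Subgroup 𝐂[a]} (hF : generalizedFittingSubgroup 𝐂[a] = Q)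
    (hQ : IsPGroup 2 Q) (hE : Nat.card (center Q) = 2) (hz : orderOf z = 2) (c : ¬ 2 ∣ 𝐂[z].index) : IsConj z a := by
  have s : ∀ x : G, ¬ 2 ∣ 𝐂[x].index → ∀ P, Syl 2 P 𝐂[x] → Syl 2 P ⊤ := fun x k P p => .mk' le_top p.pgroup fun d => by
    rw [relIndex_top_right, ← relIndex_mul_index p.le] at d
    exact (Nat.prime_two.dvd_mul.1 d).elim p.not_dvd' k
  obtain ⟨P, p, q⟩ := Syl.exists_ge (hQ.map 𝐂[a].subtype) (map_subtype_le _)
  obtain ⟨S, r⟩ := Syl.exists 2 𝐂[z]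
  obtain ⟨g, m1, m2, -⟩ := Tc.exists_conj (s a o P p) ⟨S, s z c S r, r.le⟩ ((sq z).symm.trans (orderOf_dvd_iff_pow_eq_one.1 hz.dvd))
  have k : ∀ x, (hx : x ∈ 𝐂[a]) → x ∈ 𝐂(Q.map 𝐂[a].subtype) → ∃ h : ⟨x, hx⟩ ∈ Q, (⟨_, h⟩ : Q) ∈ center Q := fun x hx e => by
    have := Fitting_le_gF _ (cent_gF_le 𝐂[a] (mem_inf.2 ⟨hx, by rwa [hF]⟩))
    rw [hF] at this
    obtain ⟨y, h, rfl⟩ := this
    exact ⟨h, mem_center_iff.2 fun w => Subtype.ext (Subtype.ext (mem_cent.1 e _ ⟨_, w.2, rfl⟩))⟩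
  obtain ⟨h1, c1⟩ := k _ (p.le m1) (cent_anti q m2)
  obtain ⟨h2, c2⟩ := k a (self_mem_cent1 a) (mem_cent.2 (by rintro _ ⟨y, -, rfl⟩; exact mem_cent1.1 y.2))
  obtain ⟨w, -, u⟩ := (Nat.card_eq_two_iff' (1 : center Q)).1 hE
  refine isConj_iff.2 ⟨g, congrArg (fun x : center Q => (x.1.1 : G)) ((u ⟨_, c1⟩ fun e => ?_).trans (u ⟨_, c2⟩ fun e => ?_).symm)⟩
  · simp [conj_eq_one_iff.1 (congrArg (fun x : center Q => (x.1.1 : G)) e)] at hz
  · simp [show a = 1 from congrArg (fun x : center Q => (x.1.1 : G)) e] at ha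

/-- `2^(1+6).U₄(2)`; the other class has `|C| = 161280 = 2⁹·315`, `|Suz|₂ = 2¹³` (`KI.Suz`) -/
theorem c_Suz (h : Spor.IsoSuz G) (hz : orderOf z = 2) (c : Tc z) : Nat.card 𝐂[z] = 3317760 :=
  els_tr h (· = 3317760) hz c fun _ x hx o =>
    let ⟨_, _, a, b, c⟩ := suz_cls
    els_two (a x hx) b c Calc.Suz.card (by norm_num) o

/-- `2.Sp₆(2)`; the other class has `|C| = 190080 = 2⁷·1485`, `|Co₃|₂ = 2¹⁰` (`KI.Co3`) -/
theorem c_Co3 (h : Spor.IsoCo3 G) (hz : orderOf z = 2) (c : Tc z) : Nat.card 𝐂[z] = 2903040 :=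
  els_tr (h.map (·.trans Leech.co3Equiv.symm)) (· = 2903040) hz c fun _ x hx o =>
    let ⟨_, _, a, b, c⟩ := co3_cls
    els_two (a x hx) b c OutS.Co3.netG.card (by norm_num) o

/-- `M7.he_cls`, `|He|₂ = 2¹⁰` -/
theorem c_He (h : Spor.IsoHe G) (hz : orderOf z = 2) (c : Tc z) : Nat.card 𝐂[z] = 21504 :=
  els_tr h (· = 21504) hz c fun _ x hx o =>
    let ⟨_, _, _, a, b, c, _⟩ := M7.he_cls
    els_two (a x hx) b c Calc.He.card (by norm_num) o

/-- classes `zz`, `bb`, `cc` of `KI.Co1` (proof of `spo_Co1`); only `C(bb) = (2² × G₂(4)).2` has order divisible by 13.  Or: S5388 gives `z₀`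
with `C(z₀) = 2^(1+8).Ω₈⁺(2)` of odd index and `F* = Q` extraspecial, so `Z(S) ≤ C(Q) ∩ C(z₀) = ⟨z₀⟩` and `z ~ z₀`. -/
theorem c_Co1 (h : Spor.IsoCo1 G) (hz : orderOf z = 2) (c : Tc z) : ¬ 13 ∣ Nat.card 𝐂[z] :=
  els_tr h (¬ 13 ∣ ·) hz c fun _ x hx o => by
    obtain ⟨a, h1, Q, _, h2, h3, h4, ⟨e⟩, -⟩ := Agent.S5388.result
    obtain ⟨φ, f⟩ := CoT.exists_equiv h1 h4 e ⟨.refl _⟩ (IsConj.refl Co2.zz)
    have k : Nat.card 𝐂[a] = 89181388800 := by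
      rw [← f, ← cent1_mp φ, card_map_of_injective φ.injective, T2.C1.card_c]
    have := 𝐂[a].index_mul_card
    rw [k, Leech.card_Co1] at this
    rw [M7.card_cent_conj (els_es h1 (by omega) h2 (.of_card h4) h3.2 hx o), k]
    norm_num

open Calc Calc.HN Big Big.HN Big.HU T2 in
theorem hn_cls : Nat.card 𝐂[gM 4] = 177408000 ∧ Nat.card 𝐂[gM 4 * gM 5] ∣ 3686400 := by
  have c : iM.range = 𝐂[gM 4] := by
    rw [MonoidHom.range_eq_map, ← topH', map_genW]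
    exact cfgM.cen
  have := isHN_GM.1
  have := Finite.of_injective _ injM
  have l : 𝐂[gM 4 * gM 5] ≤ genW (eta gM kM) (he.ws 0) := by
    intro a ha
    exact cf2M.main.1 a (mem_cent1.1 ha)
  have := card_dvd_of_le l
  rw [cf2M.bar2.card cf2M.oz cf2M.zmem, show Nat.card (genW he.gam (he.ws 0)) = _ from he_card.1] at this
  exact ⟨by rw [← c, ← Nat.card_congr (MonoidHom.ofInjective injM).toEquiv, cardH], this⟩

theorem els_hn {a b : G} (h : z = 1 ∨ IsConj a z ∨ IsConj b z) (c : Nat.card 𝐂[a] = 177408000 ∧ Nat.card 𝐂[b] ∣ 3686400)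
    (hG : Nat.card G = 273030912000000) (hz : orderOf z = 2) (o : ¬ 2 ∣ 𝐂[z].index) : ¬ 11 ∣ Nat.card 𝐂[z] := by
  rcases h with e | e | e
  · simp [e] at hz
  · have := 𝐂[z].index_mul_card
    rw [← M7.card_cent_conj e, c.1, hG] at this
    omega
  · rw [← M7.card_cent_conj e]
    exact fun d => absurd (d.trans c.2) (by norm_num)

open Calc Calc.HN Big Big.HN Big.HU T2 in
theorem hn_main : ∃ X : Type, ∃ _ : Group X, Nonempty (Spor.HN ≃* X) ∧ ∃ a b : X, (∀ x : X, x * x = 1 → x = 1 ∨ IsConj a x ∨ IsConj b x) ∧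
    (Nat.card 𝐂[a] = 177408000 ∧ Nat.card 𝐂[b] ∣ 3686400) ∧ Nat.card X = 273030912000000 :=
  let ⟨σ, _⟩ := exists_sigma
  have := isHN_GM.1
  ⟨GM, inferInstance, ⟨σ⟩, _, _, fun _ hx => cf2M.two hx, hn_cls, isHN_GM.2⟩

/-- classes of `KI.spo_HN`: `C = 2.HS.2` (2-part `2¹¹`, `|HN|₂ = 2¹⁴`) and `2^(1+8).(A₅ × A₅).2` of order `3686400` -/
theorem c_HN (h : Spor.IsoHN G) (hz : orderOf z = 2) (c : Tc z) : ¬ 11 ∣ Nat.card 𝐂[z] := by
  obtain ⟨X, _, ⟨σ⟩, a, b, h1, h2, h3⟩ := hn_main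
  exact els_tr (h.map (·.trans σ)) (¬ 11 ∣ ·) hz c fun _ x hx o =>
    els_hn (h1 x ((sq x).symm.trans (orderOf_dvd_iff_pow_eq_one.1 hx.dvd))) h2 h3 hx o

end Cfsg.Lib.QJ
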