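import Cfsg.Agent.Lib.QJ.Fr
import Cfsg.Agent.Lib.QJ.Par

/-! # QJ: no `ψ c * k` with `c` a 2-central involution and `k² = 1` lies in `𝓘`

Notation: `L = ψ.range`, `K = C(L)`, `Q = T ⊓ K`, `R = V ⊓ C(M)`. -/

set_option autoImplicit false
set_option linter.unusedSectionVars false

namespace Cfsg.Lib.QJ

open Subgroup Cfsg.Lib.BG Cfsg.Lib.Comp Cfsg.Lib.QS
open scoped Cfsg.Lib.Transfer commutatorElement

variable {G Y : Type*} [Group G] [Finite G] [IsSimpleGroup G] [Group Y] {M T V : Subgroup G} {g k r s : G}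
  {ψ : Y →* G} {U A B : Subgroup Y} {c : Y} {p : ℕ}

section Aux

variable {X : Type*} [Group X] {S H N P : Subgroup X} {x y : X}

theorem zc_norm (hx : x ∈ 𝐍(S)) (hy : y ∈ Zc S) : x * y * x⁻¹ ∈ Zc S :=
  ⟨conj_mem_of_norm hx hy.1, conj_mem_of_norm (norm_cent le_rfl hx) hy.2.1, by rw [conj_mul, hy.2.2, mul_one, mul_inv_cancel]⟩

theorem o2 (h1 : x ≠ 1) (h2 : x * x = 1) : orderOf x = 2 := orderOf_eq_prime ((sq x).trans h2) h1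

theorem o2_sq (o : orderOf x = 2) : x * x = 1 := by rw [← sq, ← o, pow_orderOf_eq_one]

theorem o2_ne (o : orderOf x = 2) : x ≠ 1 := by rintro rfl; simp at o

theorem sq_pow (h : x * x = 1) : x ^ 2 ^ 1 = 1 := by rw [pow_one, sq, h]

theorem mul_sq (c : x * y = y * x) (h1 : x * x = 1) (h2 : y * y = 1) : x * y * (x * y) = 1 := by
  rw [mul_assoc, ← mul_assoc y, ← c, mul_assoc, h2, mul_one, h1]

theorem mul_cent (h1 : S ≤ 𝐂[x]) (h2 : S ≤ 𝐂[y]) : S ≤ 𝐂[x * y] :=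
  le_cent1_iff.2 (mul_mem (le_cent1_iff.1 h1) (le_cent1_iff.1 h2))

theorem pg_zp {n : ℕ} (h : x ^ 2 ^ n = 1) : IsPGroup 2 (zpowers x) :=
  IsPGroup.of_card_dvd_pow (n := n) (by rw [Nat.card_zpowers]; exact orderOf_dvd_of_pow_eq_one h)

variable [Finite X]

theorem syl_mem (hS : Syl 2 S H) (hx : x ∈ H) {n : ℕ} (e : x ^ 2 ^ n = 1) (k : x ∈ 𝐍(S)) : x ∈ S :=
  hS.ge_of_norm_p' (zpowers_le.2 hx) (pg_zp e) (zpowers_le.2 k) (mem_zpowers x)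

theorem zc_of_syl (hS : Syl 2 S H) (hx : x ∈ H) (e : x * x = 1) (k : S ≤ 𝐂[x]) : x ∈ Zc S :=
  ⟨syl_mem hS hx (sq_pow e) (cent_le_norm _ (le_cent1_iff.1 k)), le_cent1_iff.1 k, e⟩

/-- a 2-group that normalises the 2-group `N ≠ ⊥` centralises an involution of `N` -/
theorem exists_fix (hN : IsPGroup 2 N) (hP : IsPGroup 2 P) (n : P ≤ 𝐍(N)) (ne : N ≠ ⊥) :
    ∃ z ∈ N, z ∈ 𝐂(P) ∧ z ≠ 1 ∧ z * z = 1 := by
  obtain ⟨z, m, z1, z2⟩ := exists_inv2 (hN.to_le (inf_le_left : N ⊓ 𝐂(N ⊔ P) ≤ N))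
    (nil_meet_center (pgroup_nil (pgroup_sup hN hP n)) le_sup_left (sup_le_norm_left n) ne)
  exact ⟨z, m.1, cent_anti le_sup_right m.2, z1, z2⟩

end Aux

theorem uq_M {L : Subgroup G} (h : IsStandardSubgroup L) {g' : G} (h1 : r ∈ 𝐂(g ⋆ L)) (h2 : r ∈ 𝐂(g' ⋆ L))
    (o : orderOf r = 2) : g' ⋆ L = g ⋆ L := by
  have e : (g' * g⁻¹) ⋆ (g ⋆ L) = g' ⋆ L := by rw [Transfer.conj_conj, inv_mul_cancel_right]
  rw [← e] at h2 ⊢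
  exact std_ti (std_conj h g) h1 h2 (sq_pow (o2_sq o)) (o2_ne o)

theorem cent_conj {L : Subgroup G} (h : r ∈ 𝐂(L)) (g : G) : g * r * g⁻¹ ∈ 𝐂(g ⋆ L) :=
  Transfer.conj_centralizer g L ▸ Transfer.conj_mem_conj.2 h

theorem cm_K (hk : k ∈ 𝐂(ψ.range)) (c : Y) : ψ c * k = k * ψ c := mem_cent.1 hk _ ⟨c, rfl⟩

theorem cK (T : Subgroup G) (c : Y) : ψ c ∈ 𝐂(T ⊓ 𝐂(ψ.range)) :=
  cent_symm (inf_le_right : T ⊓ 𝐂(ψ.range) ≤ 𝐂(ψ.range)) ⟨c, rfl⟩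

namespace Sf

variable (h : Sf ψ T)
include h

theorem zbg (g : G) : g ⋆ ψ.range ⊓ 𝐂(g ⋆ ψ.range) = ⊥ := by
  rw [← Transfer.conj_centralizer, ← Transfer.conj_inf, h.zb', Subgroup.map_bot]

theorem ord2 (c1 : c ≠ 1) (c2 : c * c = 1) (hk : k ∈ 𝐂(ψ.range)) (k2 : k * k = 1) : orderOf (ψ c * k) = 2 :=
  o2 (fun e => c1 (h.eq_one (eq_inv_of_mul_eq_one_left e ▸ inv_mem hk)))
    (mul_sq (cm_K hk c) (by rw [← map_mul, c2, map_one]) k2)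

theorem ne_of (c1 : c ≠ 1) (hk : k ∈ 𝐂(ψ.range)) (e : ψ c * k ∈ 𝐂(M)) : M ≠ ψ.range := by
  rintro rfl
  exact c1 (h.eq_one ((mul_mem_cancel_right hk).1 e))

theorem of_fm (k : Fm ψ.range V) : Sf ψ V := ⟨k, h.inj, h.zb⟩

/-- the `K`-part of an element of `T` lies in `T` -/
theorem decT (hk : k ∈ 𝐂(ψ.range)) (e : ψ c * k ∈ T) : k ∈ T := by
  obtain ⟨n, hn⟩ := Core.isPGroup_subgroup_iff.1 h.syl.pgroup _ e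
  refine (syl_mem h.toFm.sylK hk (h.pow hk hn).2 ?_).1
  have h1 : ψ c * k ∈ 𝐍(T ⊓ 𝐂(ψ.range)) := norm_inf (le_norm T) (norm_cent h.nT) e
  exact (mul_mem_cancel_left (cent_le_norm _ (cK T c))).1 h1

end Sf

theorem Sg.zc (h : Sg ψ T U) (hc : c ∈ Zc U) : ψ c ∈ Zc (T ⊓ ψ.range) := h.mapZ ▸ mem_map_of_mem ψ hc

theorem Sg.zc' (h : Sg ψ T U) (hs : s ∈ Zc (T ⊓ ψ.range)) : ∃ c ∈ Zc U, ψ c = s := by
  rwa [← h.mapZ] at hs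

theorem Sg.uT (h : Sg ψ T U) (hc : c ∈ U) : ψ c ∈ T ⊓ ψ.range := h.mapU ▸ mem_map_of_mem ψ hc

/-- the map `N(L) → Out Y` -/
noncomputable def ou (ψ : Y →* G) (i : Function.Injective ψ) : 𝐍(ψ.range) →* Out Y :=
  (QuotientGroup.mk' (Inn Y)).comp (au ψ i)

theorem ou_one {i : Function.Injective ψ} (hg : g ∈ 𝐍(ψ.range)) : ou ψ i ⟨g, hg⟩ = 1 ↔ g ∈ ψ.range ⊔ 𝐂(ψ.range) :=
  (QuotientGroup.eq_one_iff _).trans (au_inn hg)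

/-- a conjugate `M ≠ L` such that `(T ⊓ L) Q ≤ V` and `R ≤ N(L)` -/
structure Ta (ψ : Y →* G) (T : Subgroup G) (U : Subgroup Y) (M V : Subgroup G) : Prop extends Sg ψ T U where
  m : Fm M V
  cj : ∃ g : G, M = g ⋆ ψ.range
  ne : M ≠ ψ.range
  l1 : T ⊓ ψ.range ≤ V
  l2 : T ⊓ 𝐂(ψ.range) ≤ V
  nR : V ⊓ 𝐂(M) ≤ 𝐍(ψ.range)

/-- `W = (T ⊓ L) ⊔ Q ≤ C(r) ≤ N(g ⋆ L)`; `exists_pd` gives `S ≥ W`, `T'`, `V`; `T' ⊓ K = Q ≤ S`; `Pd.full` -/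
theorem Sg.ta_of (h : Sg ψ T U) (hc : c ∈ Zc U) (c1 : c ≠ 1) (hk : k ∈ Zc (T ⊓ 𝐂(ψ.range))) (e : ψ c * k ∈ 𝐂(g ⋆ ψ.range)) :
    ∃ V, Ta ψ T U (g ⋆ ψ.range) V ∧ ψ c * k ∈ V := by
  have o := h.ord2 c1 hc.2.2 hk.1.2 hk.2.2
  have z := h.zc hc
  have w : T ⊓ ψ.range ⊔ T ⊓ 𝐂(ψ.range) ≤ T := sup_le inf_le_left inf_le_left
  have wc : T ⊓ ψ.range ⊔ T ⊓ 𝐂(ψ.range) ≤ 𝐂[ψ c * k] :=
    sup_le (mul_cent (le_cent1_iff.2 z.2.1) (le_cent1_iff.2 (cent_anti inf_le_right hk.1.2)))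
      (mul_cent (inf_le_right.trans (cent_le_cent1 ⟨c, rfl⟩)) (le_cent1_iff.2 hk.2.1))
  obtain ⟨S, T', V, d, l⟩ := h.toFm.exists_pd (h.ne_of c1 hk.1.2 e) (h.syl.pgroup.to_le w)
    (le_inf (w.trans h.nT) (wc.trans (std_cn2 (std_conj h.std g) e o)))
  have hr : ψ c * k ∈ S := l (mul_mem_sup z.1 hk.1)
  have q : T ⊓ 𝐂(ψ.range) = T' ⊓ 𝐂(ψ.range) := h.toFm.sylK.eq_of_le_pgroup
    (le_inf ((le_sup_right.trans l).trans d.sT) inf_le_right) inf_le_right (d.l.syl.pgroup.to_le inf_le_left)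
  have f := d.full (ne_bot_of_mem ⟨hr, e⟩ (o2_ne o)) (q ▸ le_sup_right.trans l)
  exact ⟨V, ⟨h, d.m, d.cj, d.ne, (le_sup_left.trans l).trans d.sV, (le_sup_right.trans l).trans d.sV,
    (f.trans d.syl.le).trans inf_le_left⟩, d.sV hr⟩

theorem Sg.ta_N (h : Sg ψ T U) (hM : M ∈ Nn ψ.range T) (ne : M ≠ ψ.range) : Ta ψ T U M T := by
  obtain ⟨⟨g, rfl⟩, n⟩ := hM
  exact ⟨h, ⟨h.hy, std_conj h.std g, h.syl, n⟩, ⟨g, rfl⟩, ne, inf_le_left, inf_le_left, inf_le_left.trans h.nT⟩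

namespace Ta

variable (h : Ta ψ T U M V)
include h

theorem eL : V ⊓ ψ.range = T ⊓ ψ.range :=
  (h.toFm.sylL.eq_of_le_pgroup (le_inf h.l1 inf_le_right) inf_le_right (h.m.syl.pgroup.to_le inf_le_left)).symm

theorem eK : V ⊓ 𝐂(ψ.range) = T ⊓ 𝐂(ψ.range) :=
  (h.toFm.sylK.eq_of_le_pgroup (le_inf h.l2 inf_le_right) inf_le_right (h.m.syl.pgroup.to_le inf_le_left)).symm

theorem nV : V ≤ 𝐍(V ⊓ 𝐂(M)) := norm_inf (le_norm V) (norm_cent h.m.nT)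

theorem one {n : ℕ} (h1 : s ∈ 𝐂(ψ.range)) (h2 : s ∈ 𝐂(M)) (e : s ^ 2 ^ n = 1) : s = 1 := by
  obtain ⟨g, rfl⟩ := h.cj
  by_contra s1
  exact h.ne (std_ti h.std h1 h2 e s1)

/-- `[R, Q] ≤ R ⊓ Q = ⊥` (`std_ti`) -/
theorem cQ : V ⊓ 𝐂(M) ≤ 𝐂(T ⊓ 𝐂(ψ.range)) := by
  refine cent_of_norm_of_disjoint (h.eK ▸ norm_inf (le_norm_of_le inf_le_left) (norm_cent h.nR)) (h.l2.trans h.nV)
    (eq_bot_iff.2 fun x hx => ?_)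
  obtain ⟨n, hn⟩ := Core.isPGroup_subgroup_iff.1 h.syl.pgroup _ hx.2.1
  exact h.one hx.2.2 hx.1.2 hn

/-- `R ⊓ L` is normalised by `T ⊓ L`; if it is not trivial it contains an involution of `Z(T ⊓ L)` -/
theorem bot_of (n : ∀ c ∈ Zc U, ¬ Iv ψ.range (ψ c)) : V ⊓ 𝐂(M) ⊓ ψ.range = ⊥ := by
  by_contra ne
  obtain ⟨z, m, c, z1, z2⟩ := exists_fix (h.m.syl.pgroup.to_le (inf_le_left.trans inf_le_left))
    (h.syl.pgroup.to_le (inf_le_left : T ⊓ ψ.range ≤ T)) (norm_inf (h.l1.trans h.nV) (le_norm_of_le inf_le_right)) ne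
  obtain ⟨c', hc, rfl⟩ := h.zc' ⟨h.eL ▸ mem_inf.2 ⟨m.1.1, m.2⟩, c, z2⟩
  obtain ⟨g, rfl⟩ := h.cj
  exact n c' hc ⟨o2 z1 z2, g, m.1.2⟩

variable (b : V ⊓ 𝐂(M) ⊓ ψ.range = ⊥)
include b

theorem cU : V ⊓ 𝐂(M) ≤ 𝐂(T ⊓ ψ.range) :=
  cent_of_norm_of_disjoint (h.eL ▸ norm_inf (le_norm_of_le inf_le_left) h.nR) (h.l1.trans h.nV)
    (eq_bot_mono b (inf_le_inf_left _ inf_le_right))

/-- `c1`: `s = ψ c * k`; `c² = 1 = k²` (`Sf.pow`), `ψ c` and `k` centralise the Sylow subgroups `T ⊓ L`, `Q` (`Sf.cent`), so lie in them -/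
theorem dec (hs : s ∈ V ⊓ 𝐂(M)) (s2 : s * s = 1) : ∃ c ∈ Zc U, ∃ k ∈ Zc (T ⊓ 𝐂(ψ.range)), s = ψ c * k := by
  have n := h.nR hs
  have i := h.p1.c1 (au ψ h.inj ⟨s, n⟩) (by rw [← map_mul, ← map_one (au ψ h.inj)]; exact congrArg _ (Subtype.ext s2))
    fun x hx => (au_fix n).2 (mem_cent1_symm (cent_le_cent1 (h.uT hx) (h.cU b hs)))
  obtain ⟨c, k, hk, rfl⟩ := Sf.dec ((au_inn n).1 i)
  obtain ⟨c2, k2⟩ := h.pow hk (n := 2) ((sq _).trans s2)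
  rw [sq] at c2 k2
  have e1 := le_cent1_iff.2 (h.cU b hs)
  have e2 := le_cent1_iff.2 (h.cQ hs)
  obtain ⟨c', hc, e⟩ := h.zc' (zc_of_syl h.toFm.sylL ⟨c, rfl⟩ (by rw [← map_mul, c2, map_one])
    fun x hx => (h.cent hk (h.nT hx.1) (e1 hx)).1)
  exact ⟨c', hc, k, zc_of_syl h.toFm.sylK hk k2 fun x hx => (h.cent hk (h.nT hx.1) (e2 hx)).2, by rw [e]⟩

theorem zc (hs : s ∈ V ⊓ 𝐂(M)) (s2 : s * s = 1) : s ∈ Zc (V ⊓ 𝐂(M)) := by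
  obtain ⟨c, hc, k, hk, e⟩ := h.dec b hs s2
  exact ⟨hs, e ▸ mul_mem (cent_symm (h.cU b) (h.toSg.zc hc).1) (cent_symm h.cQ hk.1), s2⟩

/-- `s ↦ k` is an injective map `Zc R → Zc Q` between sets of the same size (`Fm.card_ZQ`) -/
theorem onto (hk : k ∈ Zc (T ⊓ 𝐂(ψ.range))) : ∃ c ∈ Zc U, ψ c * k ∈ V ⊓ 𝐂(M) := by
  have a : ∀ s : Zc (V ⊓ 𝐂(M)), ∃ k : Zc (T ⊓ 𝐂(ψ.range)), ∃ c ∈ Zc U, s.1 = ψ c * k := fun s =>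
    let ⟨c, hc, k, hk, e⟩ := h.dec b s.2.1 s.2.2.2; ⟨⟨k, hk⟩, c, hc, e⟩
  choose f hf using a
  have i : Function.Injective f := fun s s' e => by
    obtain ⟨c, -, e1⟩ := hf s
    obtain ⟨c', -, e2⟩ := hf s'
    have : s.1 * s'.1⁻¹ ∈ V ⊓ 𝐂(M) ⊓ ψ.range :=
      mem_inf.2 ⟨mul_mem s.2.1 (inv_mem s'.2.1), c * c'⁻¹, by rw [e1, e2, e, map_mul, map_inv]; group⟩
    rw [b, mem_bot, mul_inv_eq_one] at this
    exact Subtype.ext this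
  obtain ⟨g, rfl⟩ := h.cj
  obtain ⟨s, e⟩ := ((Nat.bijective_iff_injective_and_card f).2 ⟨i, h.toFm.card_ZQ h.m⟩).2 ⟨k, hk⟩
  obtain ⟨c, hc, e1⟩ := hf s
  rw [e] at e1
  exact ⟨c, hc, e1 ▸ s.2.1⟩

/-- `b3` for `f u` = class of `au χ (ψ u)`, `χ` a frame for `M`.  For `x ∈ ker f`: `ψ x = m * k₂` with `m ∈ M`, `k₂ ∈ C(M)` a 2-element that
normalises the Sylow subgroup `R` of `C(M)`, so `k₂ ∈ R` centralises `ψ U` and `[ψ x, ψ u] = [m, ψ u] ∈ M`. -/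
theorem le : (Zc U).map ψ ≤ M := by
  obtain ⟨g, rfl⟩ := h.cj
  obtain ⟨χ, e, k⟩ := h.toSg.frame h.m
  have cU := h.cU b
  rw [← e] at cU ⊢
  have uV : ∀ u ∈ U, ψ u ∈ V := fun u hu => h.l1 (h.uT hu)
  let f : U →* Out Y := (ou χ k.inj).comp (MonoidHom.codRestrict (ψ.comp U.subtype) _ fun u => k.nT (uV u u.2))
  refine map_le_iff_le_comap.2 ((h.p1.b3 f).trans (comm_le_iff.2 ?_))
  rintro _ ⟨x, hx, rfl⟩ u hu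
  obtain ⟨m, k₂, hk, e1⟩ := Sf.dec ((ou_one (k.nT (uV x x.2))).1 hx)
  have c := mem_cent.1 (cU ⟨k.decT hk (e1 ▸ uV x x.2), hk⟩) _ (h.uT hu)
  change ψ (x.1 * u * (x.1)⁻¹ * u⁻¹) ∈ χ.range
  rw [map_mul, map_mul, map_mul, map_inv, map_inv, e1, mul_assoc (χ m), ← c,
    show χ m * (ψ u * k₂) * (χ m * k₂)⁻¹ * (ψ u)⁻¹ = χ m * (ψ u * (χ m)⁻¹ * (ψ u)⁻¹) by group]
  exact mul_mem ⟨m, rfl⟩ (conj_mem_of_norm (k.nT (uV u hu)) (inv_mem ⟨m, rfl⟩))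

/-- an involution `k ∈ Q ⊓ M ⊓ C(T)`…: in general `Q ⊓ M` is normalised by `Q`, so it would contain `1 ≠ k ∈ Zc Q`; `ψ c * k ∈ M ⊓ C(M)`
is trivial (`Sf.zb'` conjugated), so `k = 1` -/
theorem sym : T ⊓ 𝐂(ψ.range) ⊓ M = ⊥ := by
  by_contra ne
  obtain ⟨z, m, c, z1, z2⟩ := exists_fix (h.syl.pgroup.to_le (inf_le_left.trans inf_le_left))
    (h.syl.pgroup.to_le (inf_le_left : T ⊓ 𝐂(ψ.range) ≤ T)) (norm_inf (le_norm _) (h.l2.trans h.m.nT)) ne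
  obtain ⟨c, hc, e⟩ := h.onto b ⟨m.1, c, z2⟩
  have e1 := mem_inf.2 ⟨mul_mem (h.le b (mem_map_of_mem ψ hc)) m.2, e.2⟩
  obtain ⟨g, rfl⟩ := h.cj
  rw [h.zbg, mem_bot] at e1
  exact z1 (h.uniq m.1.2 (one_mem _) (b := 1) (by rw [e1, map_one, mul_one])).2

end Ta

/-- the elements `c` with `ψ c * k ∈ 𝓘` -/
def Ak (ψ : Y →* G) (U : Subgroup Y) (k : G) : Set Y := {c | c ∈ Zc U ∧ c ≠ 1 ∧ Iv ψ.range (ψ c * k)}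

/-- the conjugates of type a -/
def Ka (ψ : Y →* G) (T : Subgroup G) (U : Subgroup Y) : Set (Subgroup G) := {M | (∃ g : G, M = g ⋆ ψ.range) ∧
  ∃ c ∈ Zc U, c ≠ 1 ∧ ∃ k ∈ Zc (T ⊓ 𝐂(ψ.range)), ψ c * k ∈ 𝐂(M)}

theorem iv_conj (hk : k ∈ 𝐂(ψ.range)) (i : Iv ψ.range (ψ c * k)) (x : Y) : Iv ψ.range (ψ (x * c * x⁻¹) * k) := by
  have := i.conj (ψ x)
  rwa [mul_assoc, mul_assoc, ← map_inv, ← cm_K hk, ← mul_assoc, ← mul_assoc, ← map_mul, ← map_mul] at this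

theorem Ak_norm (hk : k ∈ 𝐂(ψ.range)) {x : Y} (hx : x ∈ 𝐍(U)) (hc : c ∈ Ak ψ U k) : x * c * x⁻¹ ∈ Ak ψ U k :=
  ⟨zc_norm hx hc.1, mt conj_eq_one_iff.1 hc.2.1, iv_conj hk hc.2.2 x⟩

theorem nn_self {L : Subgroup G} (h : Fm L T) : L ∈ Nn L T := ⟨⟨1, (Transfer.conj_one L).symm⟩, h.nT⟩

theorem nn_conj {L : Subgroup G} (hg : g ∈ 𝐍(T)) (hM : M ∈ Nn L T) : g ⋆ M ∈ Nn L T := by
  obtain ⟨⟨x, rfl⟩, n⟩ := hM
  refine ⟨⟨g * x, Transfer.conj_conj _ _ _⟩, ?_⟩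
  rw [← Transfer.conj_normalizer]
  exact (conj_eq_of_norm hg).ge.trans (Transfer.conj_mono g n)

namespace Sg

variable (h : Sg ψ T U)
include h

/-- `handshake` on `Nn L T` for `b L₁ L₂ := T ⊓ C(L₂) ⊓ L₁ ≠ ⊥`: symmetric by `Ta.sym` (frames on all members: `Sg.frame`), all degrees
are equal by `Fm.nn_tr`, `Fm.nn_odd` -/
theorem deg_even : Even {M | M ∈ Nn ψ.range T ∧ T ⊓ 𝐂(M) ⊓ ψ.range ≠ ⊥}.ncard := by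
  have fr : ∀ x ∈ Nn ψ.range T, ∃ χ : Y →* G, χ.range = x ∧ Sg χ T U := by
    rintro _ ⟨⟨g, rfl⟩, n⟩
    exact h.frame ⟨h.hy, std_conj h.std g, h.syl, n⟩
  have ir : ∀ x ∈ Nn ψ.range T, T ⊓ 𝐂(x) ⊓ x = ⊥ := fun x hx => by
    obtain ⟨χ, rfl, k⟩ := fr x hx
    exact eq_bot_mono k.zb' (le_inf inf_le_right (inf_le_left.trans inf_le_right))
  refine handshake (Set.toFinite _) h.toFm.nn_odd (b := fun x y => T ⊓ 𝐂(y) ⊓ x ≠ ⊥) (fun x hx y hy e e' => ?_)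
    (fun x hx e => e (ir x hx)) fun x hx => ?_
  · obtain ⟨χ, rfl, k⟩ := fr y hy
    by_cases e1 : x = χ.range
    · exact e (e1 ▸ ir x hx)
    obtain ⟨⟨g, eg⟩, -⟩ := hy
    obtain ⟨⟨g', rfl⟩, n⟩ := hx
    exact e ((k.ta_N ⟨⟨g' * g⁻¹, by rw [eg, Transfer.conj_conj, inv_mul_cancel_right]⟩, n⟩ e1).sym e')
  · obtain ⟨n, hn, rfl⟩ := h.toFm.nn_tr hx
    have key : ∀ y : Subgroup G, T ⊓ 𝐂(n ⋆ y) ⊓ n ⋆ ψ.range ≠ ⊥ ↔ T ⊓ 𝐂(y) ⊓ ψ.range ≠ ⊥ := fun y => by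
      conv_lhs => rw [← conj_eq_of_norm hn, ← Transfer.conj_centralizer, ← Transfer.conj_inf, ← Transfer.conj_inf]
      exact Transfer.conj_eq_bot_iff.not
    rw [← Set.ncard_image_of_injective {M | M ∈ Nn ψ.range T ∧ T ⊓ 𝐂(M) ⊓ ψ.range ≠ ⊥} (f := fun y => n ⋆ y)
      fun _ _ => Transfer.conj_inj.1]
    refine congrArg _ (Set.ext fun y => ⟨fun hy => ⟨n⁻¹ ⋆ y, ⟨nn_conj (inv_mem hn) hy.1, (key _).1 ?_⟩,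
      Transfer.conj_inv_conj _ _⟩, ?_⟩)
    · rw [Transfer.conj_inv_conj]; exact hy.2
    · rintro ⟨y, hy, rfl⟩
      exact ⟨nn_conj hn hy.1, (key y).2 hy.2⟩

/-- `T` acts on `X = ψ (Ak ψ U 1) = {x ∈ Zc (T ⊓ L) | Iv L x}`; each fixed point lies in `C(M)` for exactly one `M`, and `M ∈ Nn L T`; the fibre
of `M` is `(Zc T ⊓ L ⊓ C(M))^#` (`even_fix`, `even_fib`, `odd_star`, `deg_even`) -/
theorem B_even : Even (Ak ψ U 1).ncard := by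
  have e : ψ '' Ak ψ U 1 = {x | x ∈ Zc (T ⊓ ψ.range) ∧ Iv ψ.range x} := Set.ext fun x => ⟨by
      rintro ⟨c, hc, rfl⟩
      exact ⟨h.zc hc.1, mul_one (ψ c) ▸ hc.2.2⟩, fun hx => by
      obtain ⟨c, hc, rfl⟩ := h.zc' hx.1
      exact ⟨c, ⟨hc, fun e => o2_ne hx.2.1 (by rw [e, map_one]), (mul_one (ψ c)).symm ▸ hx.2⟩, rfl⟩⟩
  rw [← Set.ncard_image_of_injective _ h.inj, e,
    even_fix (X := {x | x ∈ Zc (T ⊓ ψ.range) ∧ Iv ψ.range x}) h.syl.pgroup fun t ht x hx => ⟨zc_norm (norm_inf (le_norm T) h.nT ht) hx.1, hx.2.conj t⟩,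
    even_fib (Set.toFinite _) (t := {M | M ∈ Nn ψ.range T ∧ T ⊓ 𝐂(M) ⊓ ψ.range ≠ ⊥}) (fun x M => x ∈ 𝐂(M))]
  · exact h.deg_even
  · rintro x ⟨⟨hx, o, g, i⟩, c⟩
    refine ⟨g ⋆ ψ.range, ⟨⟨⟨⟨g, rfl⟩, (le_cent1_iff.2 c).trans (std_cn2 (std_conj h.std g) i o)⟩,
      ne_bot_of_mem ⟨⟨hx.1.1, i⟩, hx.1.2⟩ (o2_ne o)⟩, i⟩, ?_⟩
    rintro _ ⟨⟨⟨⟨g', rfl⟩, -⟩, -⟩, i'⟩
    exact uq_M h.std i i' o
  · rintro _ ⟨⟨⟨g, rfl⟩, n⟩, ne⟩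
    obtain ⟨z, m, c, z1, z2⟩ := exists_fix (h.syl.pgroup.to_le (inf_le_left.trans inf_le_left)) h.syl.pgroup
      (norm_inf (norm_inf (le_norm T) (norm_cent n)) h.nT) ne
    have := odd_star (E := Zc T ⊓ ψ.range ⊓ 𝐂(g ⋆ ψ.range)) (h.syl.pgroup.to_le fun x hx => hx.1.1.1)
      (ne_bot_of_mem ⟨⟨⟨m.1.1, c, z2⟩, m.2⟩, m.1.2⟩ z1)
    refine (congrArg (fun s => Odd (Set.ncard s)) (Set.ext fun x => ?_)).mpr this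
    exact ⟨fun hx => ⟨⟨⟨⟨hx.1.1.1.1.1, hx.1.2, hx.1.1.1.2.2⟩, hx.1.1.1.1.2⟩, hx.2⟩, o2_ne hx.1.1.2.1⟩,
      fun hx => ⟨⟨⟨⟨⟨hx.1.1.1.1, hx.1.1.2⟩, cent_anti inf_le_left hx.1.1.1.2.1, hx.1.1.1.2.2⟩,
        o2 hx.2 hx.1.1.1.2.2, g, hx.1.2⟩, hx.1.1.1.2.1⟩, hx.1.2⟩⟩

omit h in
theorem ncy {χ : Y →* G} (i : Function.Injective χ) (nc : ¬ QT.Cy p Y) : ¬ QT.Cy p χ.range := fun k =>
  nc (k.of_hom χ.rangeRestrict fun x e _ => i ((congrArg Subtype.val e).trans (map_one χ).symm))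

omit h in
theorem cr (hk : k ∈ 𝐂(ψ.range)) {x : Y} (hx : x ∈ 𝐂[c]) : ψ x ∈ 𝐂[ψ c * k] := by
  rw [mem_cent1, ← mul_assoc, ← map_mul, mem_cent1.1 hx, map_mul, mul_assoc, mul_assoc, cm_K hk]

/-- `ψ X ≤ C(r) ≤ N(M)` is perfect, so it lies in `M ⊔ C(M)` (`Sf.perf` for a frame on `M`); its `p`-elements lie in `M` by `qt_mem` -/
theorem s4_le (d : S4 U A B p) (m : c ∈ A ∨ c ∈ B) (c1 : c ≠ 1) (hk : k ∈ 𝐂(ψ.range)) (k2 : k * k = 1)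
    (e : ψ c * k ∈ 𝐂(g ⋆ ψ.range)) : T ⊓ ψ.range ≤ g ⋆ ψ.range := by
  have hc : c ∈ Zc U := d.sup ▸ m.elim mem_sup_left mem_sup_right
  have o := h.ord2 c1 hc.2.2 hk k2
  obtain ⟨X, hX, pX, gX⟩ := d.gen c m c1
  obtain ⟨χ, e1, f⟩ := h.frame (h.toFm.conj g)
  rw [← e1] at e ⊢
  have l : X.map ψ ≤ 𝐂[ψ c * k] := map_le_iff_le_comap.2 fun x hx => cr hk (hX hx)
  have l2 := f.perf d.sol (l.trans (std_cn2 f.std e o)) (by rw [← map_commutator, pX])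
  rw [← h.mapU, map_le_iff_le_comap]
  refine gX.trans ((closure_le _).2 fun x hx => ?_)
  exact qt_mem (x := ψ x) h.hy o (le_cent1_iff.2 e) f.pZ d.pp d.p2 (ncy f.inj d.nc) (l (mem_map_of_mem ψ hx.1))
    (by rw [← map_pow, hx.2, map_one]) (l2 (mem_map_of_mem ψ hx.1))

/-- `T1.empty`, or `S4.gd`, `Gd.ex`, `s4_le` (`ψ c ∈ M ⊓ C(M) = ⊥`) -/
theorem noB (hc : c ∈ Zc U) : ¬ Iv ψ.range (ψ c) := fun i => by
  have := h.fin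
  have m : c ∈ Ak ψ U 1 := ⟨hc, fun e => o2_ne i.1 (by rw [e, map_one]), (mul_one (ψ c)).symm ▸ i⟩
  have l : ∀ c ∈ Ak ψ U 1, c ∈ Zc U ∧ c ≠ 1 := fun c hc => ⟨hc.1, hc.2.1⟩
  have n : ∀ g ∈ 𝐍(U), ∀ c ∈ Ak ψ U 1, g * c * g⁻¹ ∈ Ak ψ U 1 := fun g hg c hc => Ak_norm (one_mem _) hg hc
  rcases h.p1.tr with t | ⟨A, B, p, d⟩
  · rw [t.empty h.p1.syl.pgroup l n h.B_even] at m
    exact m
  rcases d.gd l n h.B_even with e | e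
  · rw [e] at m
    exact m
  obtain ⟨c, ⟨hc, -, -, g, i⟩, c1, m⟩ := e.ex d.dc
  have e1 := mem_inf.2 ⟨h.s4_le d m c1 (one_mem _) (one_mul 1) i (h.zc hc).1, mul_one (ψ c) ▸ i⟩
  rw [h.zbg, mem_bot] at e1
  exact c1 (h.inj (e1.trans (map_one ψ).symm))

/-- `c ↦` the conjugate `M` with `ψ c * k ∈ C(M)` is a bijection (`noB`, `ta_of`, `Ta.onto`; `even_fib` is not needed) -/
theorem card_A (hk : k ∈ Zc (T ⊓ 𝐂(ψ.range))) (k1 : k ≠ 1) : (Ak ψ U k).ncard = (Ka ψ T U).ncard := by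
  refine Set.ncard_congr (fun c hc => hc.2.2.2.choose ⋆ ψ.range)
    (fun c hc => ⟨⟨_, rfl⟩, c, hc.1, hc.2.1, k, hk, hc.2.2.2.choose_spec⟩) (fun c c' hc hc' e => ?_) ?_
  · by_contra ne
    have m := mul_mem hc.1 (inv_mem hc'.1)
    refine h.noB m ⟨o2 (fun e => ne (mul_inv_eq_one.1 (h.inj (e.trans (map_one ψ).symm)))) (h.zc m).2.2,
      hc'.2.2.2.choose, ?_⟩
    have := mul_mem (e ▸ hc.2.2.2.choose_spec :) (inv_mem hc'.2.2.2.choose_spec)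
    rwa [mul_inv_rev, ← mul_assoc, mul_inv_cancel_right, ← map_inv, ← map_mul] at this
  · rintro _ ⟨⟨g, rfl⟩, c, hc, c1, k', hk', e⟩
    obtain ⟨V, t, -⟩ := h.ta_of hc c1 hk' e
    obtain ⟨c, hc, e⟩ := t.onto (t.bot_of fun _ => h.noB) hk
    have c1 : c ≠ 1 := by
      rintro rfl
      rw [map_one, one_mul] at e
      exact k1 (t.one hk.1.2 e.2 (sq_pow hk.2.2))
    have o := h.ord2 c1 hc.2.2 hk.1.2 hk.2.2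
    have m : c ∈ Ak ψ U k := ⟨hc, c1, o, g, e.2⟩
    exact ⟨c, m, uq_M h.std e.2 m.2.2.2.choose_spec o⟩

theorem fix_Ka : {M | M ∈ Ka ψ T U ∧ T ≤ 𝐍(M)} = Nn ψ.range T \ {ψ.range} := by
  refine Set.ext fun M => ⟨fun ⟨⟨g, c, _, c1, k, hk, e⟩, n⟩ => ⟨⟨g, n⟩, h.ne_of c1 hk.1.2 e⟩, fun ⟨hM, ne⟩ => ⟨⟨hM.1, ?_⟩, hM.2⟩⟩
  have t := h.ta_N hM ne
  obtain ⟨z, hz, c, o⟩ := h.toFm.exists_z
  have hk : z ∈ Zc (T ⊓ 𝐂(ψ.range)) := ⟨hz, cent_anti inf_le_left c, o2_sq o⟩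
  obtain ⟨c, hc, e⟩ := t.onto (t.bot_of fun _ => h.noB) hk
  refine ⟨c, hc, ?_, z, hk, e.2⟩
  rintro rfl
  rw [map_one, one_mul] at e
  exact o2_ne o (t.one hz.2 e.2 (sq_pow hk.2.2))

/-- `even_fix'`, `fix_Ka`, `Fm.nn_odd` -/
theorem A_even (hk : k ∈ Zc (T ⊓ 𝐂(ψ.range))) (k1 : k ≠ 1) : Even (Ak ψ U k).ncard := by
  rw [h.card_A hk k1, even_fix' h.syl.pgroup, h.fix_Ka]
  · have := h.toFm.nn_odd
    rw [← Set.ncard_sdiff_singleton_add_one (nn_self h.toFm) (Set.toFinite _)] at this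
    exact Nat.not_odd_iff_even.1 (Nat.odd_add_one.1 this)
  · rintro t ht _ ⟨⟨g, rfl⟩, c, hc, c1, k, hk, e⟩
    obtain ⟨c', hc', e'⟩ := h.zc' (zc_norm (norm_inf (le_norm T) h.nT ht) (h.zc hc))
    refine ⟨⟨t * g, Transfer.conj_conj _ _ _⟩, c', hc', ?_, _, zc_norm (norm_inf (le_norm T) (norm_cent h.nT) ht) hk, ?_⟩
    · rintro rfl
      exact c1 (h.inj ((conj_eq_one_iff.1 (e'.symm.trans (map_one ψ))).trans (map_one ψ).symm))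
    · rw [e', conj_mul]
      exact cent_conj e t

theorem star (i : Iv ψ.range k) {x : G} (hx : x ∈ (Zc U).map ψ) : (x = 1 ∨ x ∈ ψ '' Ak ψ U k) ↔ Iv ψ.range (x * k) := by
  obtain ⟨c, hc, rfl⟩ := hx
  constructor
  · rintro (e | ⟨c', m, e⟩)
    · rwa [e, one_mul]
    · exact e ▸ m.2.2
  · exact fun j => (eq_or_ne c 1).imp (fun e => by rw [e, map_one]) fun e => ⟨c, ⟨hc, e, j⟩, rfl⟩

/-- `T1.empty`.  Case `S4`: otherwise take `c` from `Gd.ex`, `r = ψ c * k ∈ C(M)`, `V` from `ta_of`.  `T ⊓ L = V ⊓ M` (`s4_le`, `Fm.card_U`), so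
a frame `χ` for `(M, V)` has `(Zc U).map χ = (Zc U).map ψ = Z`; `r ∈ Zc R` (`Ta.zc`), `X' = χ '' Ak χ U r ∋ ψ c` is good;
for `x ∈ Z`: `x * r = (x * ψ c) * k`, and `r, k ∈ 𝓘`; `translate`. -/
theorem A_empty (hk : k ∈ Zc (T ⊓ 𝐂(ψ.range))) (k1 : k ≠ 1) : Ak ψ U k = ∅ := by
  have := h.fin
  have l : ∀ (χ : Y →* G) (k : G), ∀ c ∈ Ak χ U k, c ∈ Zc U ∧ c ≠ 1 := fun _ _ c hc => ⟨hc.1, hc.2.1⟩
  have n : ∀ (χ : Y →* G), ∀ k ∈ 𝐂(χ.range), ∀ g ∈ 𝐍(U), ∀ c ∈ Ak χ U k, g * c * g⁻¹ ∈ Ak χ U k :=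
    fun _ _ hk g hg c hc => Ak_norm hk hg hc
  rcases h.p1.tr with t | ⟨A, B, p, d⟩
  · exact t.empty h.p1.syl.pgroup (l _ _) (n _ _ hk.1.2) (h.A_even hk k1)
  refine (d.gd (l _ _) (n _ _ hk.1.2) (h.A_even hk k1)).resolve_right fun e => ?_
  obtain ⟨c, mc, c1, m⟩ := e.ex d.dc
  obtain ⟨hc, -, o, g, i⟩ := id mc
  obtain ⟨V, t, hr⟩ := h.ta_of hc c1 hk i
  have eU : T ⊓ ψ.range = V ⊓ g ⋆ ψ.range :=
    eq_of_le_of_card_le (le_inf t.l1 (h.s4_le d m c1 hk.1.2 hk.2.2 i)) (h.toFm.card_U t.m).le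
  have zr := t.zc (t.bot_of fun _ => h.noB) ⟨hr, i⟩ (o2_sq o)
  obtain ⟨χ, e1, f⟩ := h.frame t.m
  have iv : ∀ x, Iv χ.range x ↔ Iv ψ.range x := fun x => by rw [e1, iv_iff]
  rw [← e1] at zr eU
  have eZ : (Zc U).map χ = (Zc U).map ψ := by rw [f.mapZ, h.mapZ, eU]
  have ik : Iv ψ.range k := iv_of (o2 k1 hk.2.2) hk.1.2
  have cc : ψ c * ψ c = 1 := (h.zc hc).2.2
  have e' : Gd (Zc U) A B (Ak χ U (ψ c * k)) := (d.gd (l _ _) (n _ _ zr.1.2) (f.A_even zr (o2_ne o))).resolve_left fun e => by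
    obtain ⟨c', hc', e2⟩ := (eZ ▸ mem_map_of_mem ψ hc : ψ c ∈ (Zc U).map χ)
    refine (e ▸ ⟨hc', ?_, ?_⟩ : c' ∈ (∅ : Set Y))
    · rintro rfl
      exact c1 (h.inj (e2.symm.trans ((map_one χ).trans (map_one ψ).symm)))
    · rwa [e2, ← mul_assoc, cc, one_mul, iv]
  refine translate (d.dc.map h.inj) (eZ ▸ d.dc.map f.inj) (e.map h.inj) (eZ ▸ e'.map f.inj) ⟨c, mc, rfl⟩
    (m.imp (mem_map_of_mem ψ) (mem_map_of_mem ψ)) fun x hx => ?_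
  rw [f.star ((iv _).2 mc.2.2) (eZ ▸ hx), h.star ik (mul_mem hx (mem_map_of_mem ψ hc)), iv, mul_assoc]

/-- **(I)**  Conjugate by `L` to get `c ∈ Zc U`.  `W = (T ⊓ L) ⊔ ⟨k⟩ ≤ C(r)`, `r ∈ W`; `exists_pd`, `Pd.pl`, `Pd.comm`: `Q' = T' ⊓ K ≤ S` centralises
`r`, so `k ∈ Zc Q'`; `Sg ψ T' U` holds as `T' ⊓ L = T ⊓ L`; `noB` or `A_empty`. -/
theorem noa (t : Tc c) (c2 : c * c = 1) (c1 : c ≠ 1) (hk : k ∈ 𝐂(ψ.range)) (k2 : k * k = 1) : ¬ Iv ψ.range (ψ c * k) := fun i => by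
  have := h.fin
  obtain ⟨y, hc⟩ := t.exists_conj h.p1.syl c2
  replace i := iv_conj hk i y
  replace c1 : y * c * y⁻¹ ≠ 1 := mt conj_eq_one_iff.1 c1
  generalize y * c * y⁻¹ = c at hc i c1
  by_cases k1 : k = 1
  · exact h.noB hc (by rwa [k1, mul_one] at i)
  obtain ⟨o, g, e⟩ := id i
  have z := h.zc hc
  have kc : k ∈ 𝐂(T ⊓ ψ.range) := cent_anti inf_le_right hk
  have wc : T ⊓ ψ.range ⊔ zpowers k ≤ 𝐂[ψ c * k] :=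
    sup_le (mul_cent (le_cent1_iff.2 z.2.1) (le_cent1_iff.2 kc))
      (zpowers_le.2 (mem_cent1.2 (by rw [← mul_assoc, ← cm_K hk])))
  obtain ⟨S, T', V, d, l⟩ := h.toFm.exists_pd (h.ne_of c1 hk e)
    (pgroup_sup (h.syl.pgroup.to_le inf_le_left) (pg_zp (sq_pow k2)) (zpowers_le.2 (cent_le_norm _ kc)))
    (le_inf (sup_le (inf_le_left.trans h.nT) (zpowers_le.2 (cent_le_norm _ hk))) (wc.trans (std_cn2 (std_conj h.std g) e o)))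
  have hr : ψ c * k ∈ S := l (mul_mem_sup z.1 (mem_zpowers k))
  have kS : k ∈ S := l (mem_sup_right (mem_zpowers k))
  have q := d.pl ⟨hr, e⟩ (o2_ne o) ⟨kS, hk⟩ k2 ⟨c, by rw [mul_assoc, k2, mul_one]⟩
  have hk' : k ∈ Zc (T' ⊓ 𝐂(ψ.range)) := ⟨⟨d.sT kS, hk⟩, (mul_mem_cancel_left (cK T' c)).1
    (cent_anti (le_inf q inf_le_right) (d.comm ⟨hr, e⟩)), k2⟩
  have eU : T ⊓ ψ.range = T' ⊓ ψ.range := h.toFm.sylL.eq_of_le_pgroup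
    (le_inf ((le_sup_left.trans l).trans d.sT) inf_le_right) inf_le_right (d.l.syl.pgroup.to_le inf_le_left)
  have f : Sg ψ T' U := ⟨h.of_fm d.l, (show T'.comap ψ = T.comap ψ from Subgroup.ext fun x : Y => ⟨fun e => (eU.ge (mem_inf.2 ⟨e, x, rfl⟩)).1,
    fun e => (eU.le (mem_inf.2 ⟨e, x, rfl⟩)).1⟩).trans h.hU,
    h.p1⟩
  exact (f.A_empty hk' k1 ▸ ⟨hc, c1, i⟩ : c ∈ (∅ : Set Y))

/-- `fix_Ka`, `noa` -/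
theorem uq : Uq ψ.range T := fun g n => by
  have := h.fin
  by_contra ne
  obtain ⟨⟨-, c, hc, c1, k, hk, e⟩, -⟩ := h.fix_Ka.ge (show g ⋆ ψ.range ∈ _ from ⟨⟨⟨g, rfl⟩, n⟩, ne⟩)
  exact h.noa (tc_of h.p1.syl hc.2.1) hc.2.2 c1 hk.1.2 hk.2.2 ⟨h.ord2 c1 hc.2.2 hk.1.2 hk.2.2, g, e⟩

end Sg

end Cfsg.Lib.QJ
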